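import Cfsg.Agent.Lib.CIT.SThreeTwo.RankTwo
import Cfsg.Agent.Lib.CIT.Theorem
import Cfsg.Agent.Lib.CIT.UFourModel

/-!
# S3214: assembly

The case split on the 2-rank, with the rank-three reduction and the model of the Sylow subgroup of
`U₃(4)` as inputs.
-/

set_option autoImplicit false
set_option linter.style.haveILetI false

namespace Cfsg.Agent.CIT.SThreeTwo

open Subgroup

universe u

variable {G : Type u} [Group G] [Finite G]

/-- A subgroup of order eight and exponent two, when the 2-rank exceeds two. -/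
theorem exists_eight (h2 : ¬ Cfsg.PRankLE 2 2 G) :
    ∃ B : Subgroup G, Nat.card B = 8 ∧ ∀ x ∈ B, x * x = 1 := by
  haveI : Fact (Nat.Prime 2) := ⟨Nat.prime_two⟩
  simp only [Cfsg.PRankLE, not_forall, not_le] at h2
  obtain ⟨A, hA, hA2, hlt⟩ := h2
  have hAp : IsPGroup 2 A := fun a => ⟨1, Subtype.ext (by rw [pow_one]; exact hA2 a a.2)⟩
  obtain ⟨n, hn⟩ := IsPGroup.iff_card.1 hAp
  have hn3 : 3 ≤ n := by
    by_contra hc
    rw [hn] at hlt
    exact absurd hlt (Nat.pow_le_pow_right two_pos (by omega : n ≤ 2)).not_gt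
  obtain ⟨B, hB⟩ := Sylow.exists_subgroup_card_pow_prime 2 (n := 3) (G := A)
    (hn ▸ pow_dvd_pow 2 hn3)
  refine ⟨B.map A.subtype, by
    rw [Subgroup.card_map_of_injective A.subtype_injective, hB]; norm_num, fun x hx => ?_⟩
  rw [← sq]
  exact hA2 x (Subgroup.map_subtype_le _ hx)

variable [IsSimpleGroup G]

/-- The list of simple CIT groups inside the conclusion of S3214. -/
theorem conclusion_of_list (h : CITList G) :
    (∃ (F : Type) (_ : Field F) (_ : Fintype F), 3 < Fintype.card F ∧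
        Nonempty (G ≃* Matrix.ProjectiveSpecialLinearGroup (Fin 2) F)) ∨
      Cfsg.Lie.IsoSuzuki G ∨ Nonempty (G ≃* ↥(alternatingGroup (Fin 7))) ∨
      (∃ (F : Type) (_ : Field F) (_ : Fintype F), Fintype.card F = 4 ∧
        Nonempty (G ≃* Matrix.ProjectiveSpecialLinearGroup (Fin 3) F)) := by
  rcases h with ⟨F, i1, i2, hF, hf⟩ | h | h
  · refine Or.inl ⟨F, i1, i2, ?_, hf⟩
    rcases hF with h | ⟨n, hn, h⟩ | ⟨h, -⟩
    · omega
    · have := Nat.pow_le_pow_right two_pos hn
      omega
    · omega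
  · exact Or.inr (Or.inr (Or.inr h))
  · exact Or.inr (Or.inl h)

/-- S3214 from the reduction in 2-rank at least three. -/
theorem main_of (hG : ¬ IsMulCommutative G)
    (hI : ∀ t : G, orderOf t = 2 →
      Cfsg.HasNormalPComplement 2 ↥(centralizer ({t} : Set G)))
    (hThree : (∃ B : Subgroup G, Nat.card B = 8 ∧ ∀ x ∈ B, x * x = 1) → IsCIT G) :
    (∃ (F : Type) (_ : Field F) (_ : Fintype F), 3 < Fintype.card F ∧
        Nonempty (G ≃* Matrix.ProjectiveSpecialLinearGroup (Fin 2) F)) ∨
      Cfsg.Lie.IsoSuzuki G ∨ Nonempty (G ≃* ↥(alternatingGroup (Fin 7))) ∨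
      (∃ (F : Type) (_ : Field F) (_ : Fintype F), Fintype.card F = 4 ∧
        Nonempty (G ≃* Matrix.ProjectiveSpecialLinearGroup (Fin 3) F)) := by
  classical
  haveI := Fintype.ofFinite (GaloisField 2 4)
  have h16 : Fintype.card (GaloisField 2 4) = 16 := by
    rw [← Nat.card_eq_fintype_card, GaloisField.card 2 4 (by norm_num)]; norm_num
  by_cases h2 : Cfsg.PRankLE 2 2 G
  · rcases conclusion_of_rankTwo hG hI h2 fun S P e => false_of_psu_sylow hG hI S h16 P e with h | h
    · exact Or.inl h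
    · exact Or.inr (Or.inr (Or.inl h))
  · exact conclusion_of_list (citTheorem G hG (hThree (exists_eight h2)))

end Cfsg.Agent.CIT.SThreeTwo
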