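import Cfsg.Agent.Lib.CIT.SThreeTwo.Mod
import Cfsg.Agent.Lib.CIT.SEOdd.Main
import Cfsg.Agent.Lib.CIT.GenQuot
import Cfsg.Agent.Lib.Involutions.ThompsonTransfer

/-!
# S3214, rank at least three

A simple group in which every involution centraliser has a normal 2-complement and which has an
elementary abelian subgroup of order eight is a CIT group: otherwise the completion `W` has a strongly
embedded normaliser, against `SEOdd.Hyp.le_oddCore`.
-/

set_option autoImplicit false
set_option linter.style.haveILetI false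
set_option linter.unusedSectionVars false

namespace Cfsg.Agent.CIT.SThreeTwo

open Subgroup Cfsg.Agent.Involutions

universe u

variable {G : Type u} [Group G] [Finite G]

omit [Finite G] in
theorem map_conj_map (B : Subgroup G) (g h : G) :
    (B.map (MulAut.conj g).toMonoidHom).map (MulAut.conj h).toMonoidHom =
      B.map (MulAut.conj (h * g)).toMonoidHom := by
  rw [Subgroup.map_map]
  congr 1
  ext x
  simp [mul_assoc]

theorem exists_le_sylow_map {S : Sylow 2 G} {B : Subgroup G} (hB : IsPGroup 2 B) :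
    ∃ g : G, B.map (MulAut.conj g).toMonoidHom ≤ (S : Subgroup G) := by
  haveI : Fact (Nat.Prime 2) := ⟨Nat.prime_two⟩
  obtain ⟨T, hT⟩ := hB.exists_le_sylow
  obtain ⟨g, hg⟩ := MulAction.exists_smul_eq G T S
  refine ⟨g, ?_⟩
  rw [← hg, Sylow.coe_subgroup_smul]
  exact map_mono hT

theorem card_le_four {H : Subgroup G} {a b c d : G} (h : (H : Set G) ⊆ {a, b, c, d}) :
    Nat.card H ≤ 4 := by
  refine (Nat.card_coe_set_eq (H : Set G)).le.trans ((Set.ncard_le_ncard h (Set.toFinite _)).trans ?_)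
  refine (Set.ncard_insert_le _ _).trans ?_
  refine Nat.succ_le_succ ((Set.ncard_insert_le _ _).trans ?_)
  refine Nat.succ_le_succ ((Set.ncard_insert_le _ _).trans ?_)
  rw [Set.ncard_singleton]

variable [IsSimpleGroup G] (hG : ¬ IsMulCommutative G) (hI : Complement G)
include hG

omit [Finite G] in
theorem not_index_two : ∀ H : Subgroup G, H.index ≠ 2 := fun H h => by
  haveI := normal_of_index_eq_two h
  rcases IsSimpleGroup.eq_bot_or_eq_top_of_normal H inferInstance with e | e
  · rw [e, index_bot] at h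
    haveI : Fact (Nat.Prime 2) := ⟨Nat.prime_two⟩
    haveI := isCyclic_of_prime_card (α := G) h
    exact hG inferInstance
  · rw [e, index_top] at h
    omega

/-- Every involution lies in a large elementary subgroup. -/
theorem exists_elem {B₀ : Subgroup G} (hB₀ : Elem B₀) {t : G} (ht : orderOf t = 2) :
    ∃ B : Subgroup G, Elem B ∧ t ∈ B := by
  haveI : Fact (Nat.Prime 2) := ⟨Nat.prime_two⟩
  obtain ⟨S, hS⟩ := hB₀.isPGroup.exists_le_sylow
  obtain ⟨z, e, hzS, heS, hz, he, hne, hzc, hsw⟩ := exists_four hB₀ hS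
  obtain ⟨A, hA, -, hzA, heA, -, -⟩ := exists_link hz he hne hzS heS hzc hsw hB₀ hS
  set V := (S : Subgroup G) ⊓ centralizer ({e} : Set G) with hV
  -- `t` is conjugate into `V`
  obtain ⟨g, hg⟩ : ∃ g : G, g * t * g⁻¹ ∈ V := by
    by_cases hall : ∀ s ∈ (S : Subgroup G), s * e * s⁻¹ = e
    · have hVS : (S : Subgroup G) ≤ V := fun s hs =>
        ⟨hs, mem_centralizer_singleton_iff.2 (mul_inv_eq_iff_eq_mul.1 (hall s hs))⟩
      obtain ⟨g, hg⟩ := exists_le_sylow_map (S := S)
        (IsPGroup.of_card (G := zpowers t) (p := 2) (n := 1) (by rw [Nat.card_zpowers, ht, pow_one]))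
      exact ⟨g, hVS (hg ⟨t, mem_zpowers t, rfl⟩)⟩
    · push Not at hall
      obtain ⟨s0, hs0, hs0e⟩ := hall
      have hs0e' := (hsw s0 hs0).resolve_left hs0e
      refine Cfsg.Agent.Involutions.ThompsonTransfer.exists_conj_mem (not_index_two hG) S V inf_le_left ?_ t ht
      show (V.subgroupOf (S : Subgroup G)).index = 2
      rw [Subgroup.index_eq_two_iff]
      refine ⟨⟨s0, hs0⟩, fun b => ?_⟩
      have hiff : ∀ x : (S : Subgroup G), x ∈ V.subgroupOf (S : Subgroup G) ↔ (x : G) * e * (x : G)⁻¹ = e := by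
        intro x
        rw [mem_subgroupOf, hV, mem_inf, mem_centralizer_singleton_iff, mul_inv_eq_iff_eq_mul]
        exact and_iff_right x.2
      rw [hiff, hiff]
      rcases hsw b b.2 with hbe | hbe
      · refine Or.inr ⟨hbe, fun h => hs0e ?_⟩
        calc s0 * e * s0⁻¹ = (b : G)⁻¹ * (((b : G) * s0) * e * ((b : G) * s0)⁻¹) * b := by group
          _ = (b : G)⁻¹ * ((b : G) * e * (b : G)⁻¹) * b := by
            rw [hbe]; exact congrArg (fun w => (b : G)⁻¹ * w * b) h
          _ = e := by group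
      · refine Or.inl ⟨?_, fun h => ?_⟩
        · show (b : G) * s0 * e * ((b : G) * s0)⁻¹ = e
          calc (b : G) * s0 * e * ((b : G) * s0)⁻¹ = (b : G) * (s0 * e * s0⁻¹) * (b : G)⁻¹ := by group
            _ = ((b : G) * e * (b : G)⁻¹) * ((b : G) * z * (b : G)⁻¹) := by rw [hs0e']; group
            _ = e := by
              rw [hbe, ← hzc b b.2, mul_inv_cancel_right, mul_assoc, Basic.inv_sq_one hz, mul_one]
        · rw [h] at hbe
          exact Basic.ne_one hz (mul_eq_left.1 hbe.symm)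
  -- a large elementary subgroup containing the conjugate
  obtain ⟨C, hC, htC⟩ : ∃ C : Subgroup G, Elem C ∧ g * t * g⁻¹ ∈ C := by
    set t' := g * t * g⁻¹
    by_cases ht'A : t' ∈ A
    · exact ⟨A, hA, ht'A⟩
    have ht' : t' * t' = 1 := Basic.inv_sq_one ((Basic.orderOf_conj g t).trans ht)
    have hte : t' * e = e * t' := mem_centralizer_singleton_iff.1 hg.2
    have htz : t' * z = z * t' := (hzc _ hg.1).symm
    obtain ⟨h1, h2⟩ := closure_elem (s := ({z, e, t'} : Set G))
      (by
        rintro a (rfl | rfl | rfl) b (rfl | rfl | rfl)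
        exacts [rfl, hzc _ heS, htz.symm, (hzc _ heS).symm, rfl, hte.symm, htz, hte, rfl])
      (by rintro a (rfl | rfl | rfl); exacts [Basic.inv_sq_one hz, Basic.inv_sq_one he, ht'])
    refine ⟨closure {z, e, t'}, ⟨h1, h2, ?_⟩, subset_closure (Or.inr (Or.inr rfl))⟩
    have hp : IsPGroup 2 (closure ({z, e, t'} : Set G)) :=
      fun b => ⟨1, Subtype.ext (by simpa [pow_two] using h2 _ b.2)⟩
    obtain ⟨k, hk⟩ := IsPGroup.iff_card.1 hp
    have h5 : 5 ≤ Nat.card (closure ({z, e, t'} : Set G)) := by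
      classical
      have hE : ∀ w ∈ ({1, z, e, z * e} : Finset G), w ∈ A := by
        intro w hw
        simp only [Finset.mem_insert, Finset.mem_singleton] at hw
        rcases hw with rfl | rfl | rfl | rfl
        exacts [one_mem A, hzA, heA, mul_mem hzA heA]
      have h4 : ({1, z, e, z * e} : Finset G).card = 4 := by
        have hn1 : z * e ≠ 1 := fun h => hne (by rw [eq_inv_of_mul_eq_one_left h, Basic.inv_eq he])
        have hn2 : z * e ≠ z := fun h => Basic.ne_one he (mul_eq_left.1 h)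
        have hn3 : z * e ≠ e := fun h => Basic.ne_one hz (mul_eq_right.1 h)
        simp [(Basic.ne_one hz).symm, (Basic.ne_one he).symm, hne, hn1.symm, hn2.symm, hn3.symm]
      have h5 : (insert t' ({1, z, e, z * e} : Finset G)).card = 5 := by
        rw [Finset.card_insert_of_notMem (fun h => ht'A (hE _ h)), h4]
      rw [← h5, ← Set.ncard_coe_finset]
      refine le_trans (Set.ncard_le_ncard ?_ (Set.toFinite _))
        (Nat.card_coe_set_eq ((closure ({z, e, t'} : Set G) : Subgroup G) : Set G)).ge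
      simp only [Finset.coe_insert, Finset.coe_singleton, Set.insert_subset_iff, Set.singleton_subset_iff,
        SetLike.mem_coe]
      exact ⟨subset_closure (Or.inr (Or.inr rfl)), one_mem _, subset_closure (Or.inl rfl),
        subset_closure (Or.inr (Or.inl rfl)),
        mul_mem (subset_closure (Or.inl rfl)) (subset_closure (Or.inr (Or.inl rfl)))⟩
    rw [hk] at h5 ⊢
    rcases k with _ | _ | _ | k
    · norm_num at h5
    · norm_num at h5
    · norm_num at h5
    · rw [pow_succ, pow_succ, pow_succ]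
      have : 0 < 2 ^ k := by positivity
      omega
  refine ⟨C.map (MulAut.conj g⁻¹).toMonoidHom, hC.map _, ⟨_, htC, ?_⟩⟩
  simp [mul_assoc]

include hI

/-- All completions through the involutions of a Sylow subgroup agree. -/
theorem WB_of_mem_sylow {B₀ : Subgroup G} (hB₀ : Elem B₀) {S : Sylow 2 G} {C : Subgroup G} (hC : Elem C)
    (hCS : C ≤ (S : Subgroup G)) {t : G} (ht : orderOf t = 2) (htS : t ∈ (S : Subgroup G)) {B : Subgroup G}
    (hB : Elem B) (htB : t ∈ B) : WB B = WB C := by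
  haveI : Fact (Nat.Prime 2) := ⟨Nat.prime_two⟩
  have ht1 := Basic.ne_one ht
  obtain ⟨z, e, hzS, heS, hz, he, hne, hzc, hsw⟩ := exists_four hC hCS
  obtain ⟨A, hA, hAS, hzA, -, -, -⟩ := exists_link hz he hne hzS heS hzc hsw hC hCS
  have hWz : WB A = WB C := WB_eq_of_le_sylow hI hA hC hAS hCS
  have htz : Commute t z := (hzc t htS).symm
  by_cases heq : t = z
  · rw [WB_eq_of_mem hI hB hA htB (heq ▸ hzA) ht1, hWz]
  by_cases hthird : ∃ B' : Subgroup G, Elem B' ∧ t ∈ B' ∧ z ∈ B'
  · obtain ⟨B', hB', htB', hzB'⟩ := hthird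
    rw [WB_eq_of_mem hI hB hB' htB htB' ht1, WB_eq_of_mem hI hB' hA hzB' hzA (Basic.ne_one hz), hWz]
  exfalso
  -- the involutions commuting with `t` and `z`
  have honly : ∀ x : G, x * x = 1 → Commute x t → Commute x z → x = 1 ∨ x = t ∨ x = z ∨ x = t * z := by
    intro x hx hxt hxz
    by_contra! hne4
    apply hthird
    obtain ⟨h1, h2⟩ := closure_elem (s := ({t, z, x} : Set G))
      (by
        rintro a (rfl | rfl | rfl) b (rfl | rfl | rfl)
        exacts [rfl, htz.eq, hxt.eq.symm, htz.eq.symm, rfl, hxz.eq.symm, hxt.eq, hxz.eq, rfl])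
      (by rintro a (rfl | rfl | rfl); exacts [Basic.inv_sq_one ht, Basic.inv_sq_one hz, hx])
    refine ⟨closure {t, z, x}, ⟨h1, h2, ?_⟩, subset_closure (Or.inl rfl), subset_closure (Or.inr (Or.inl rfl))⟩
    have hp : IsPGroup 2 (closure ({t, z, x} : Set G)) :=
      fun b => ⟨1, Subtype.ext (by simpa [pow_two] using h2 _ b.2)⟩
    obtain ⟨k, hk⟩ := IsPGroup.iff_card.1 hp
    have h5 : 5 ≤ Nat.card (closure ({t, z, x} : Set G)) := by
      classical
      have hn1 : t * z ≠ 1 := fun h => heq (by rw [eq_inv_of_mul_eq_one_left h, Basic.inv_eq hz])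
      have hn2 : t * z ≠ t := fun h => Basic.ne_one hz (mul_eq_left.1 h)
      have hn3 : t * z ≠ z := fun h => ht1 (mul_eq_right.1 h)
      have h5 : ({1, t, z, t * z, x} : Finset G).card = 5 := by
        simp [ht1.symm, (Basic.ne_one hz).symm, heq, hn1.symm, hn2.symm, hn3.symm, hne4.1.symm,
          hne4.2.1.symm, hne4.2.2.1.symm, hne4.2.2.2.symm]
      rw [← h5, ← Set.ncard_coe_finset]
      refine le_trans (Set.ncard_le_ncard ?_ (Set.toFinite _))
        (Nat.card_coe_set_eq ((closure ({t, z, x} : Set G) : Subgroup G) : Set G)).ge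
      simp only [Finset.coe_insert, Finset.coe_singleton, Set.insert_subset_iff, Set.singleton_subset_iff,
        SetLike.mem_coe]
      exact ⟨one_mem _, subset_closure (Or.inl rfl), subset_closure (Or.inr (Or.inl rfl)),
        mul_mem (subset_closure (Or.inl rfl)) (subset_closure (Or.inr (Or.inl rfl))),
        subset_closure (Or.inr (Or.inr rfl))⟩
    rw [hk] at h5 ⊢
    rcases k with _ | _ | _ | k
    · norm_num at h5
    · norm_num at h5
    · norm_num at h5
    · rw [pow_succ, pow_succ, pow_succ]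
      have : 0 < 2 ^ k := by positivity
      omega
  -- a Sylow subgroup of `C(t) ∩ C(z)` inside a Sylow subgroup with `z` central
  set Z := centralizer ({z} : Set G) with hZ
  set F := centralizer ({t} : Set G) ⊓ Z with hF
  obtain ⟨P⟩ := (inferInstance : Nonempty (Sylow 2 F))
  set D := (P : Subgroup F).map F.subtype with hD
  have hDF : D ≤ F := map_subtype_le _
  have hDp : IsPGroup 2 D := P.2.map _
  have hDmax : ∀ R : Subgroup G, IsPGroup 2 R → D ≤ R → R ≤ F → R ≤ D := by
    intro R hR hDR hRF x hx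
    refine ⟨⟨x, hRF hx⟩, ?_, rfl⟩
    have h1 : R.subgroupOf F = (P : Subgroup F) := P.3 hR.comap_subtype fun y hy =>
      hDR (mem_map_of_mem F.subtype hy)
    rw [SetLike.mem_coe, ← h1]
    exact hx
  have hmemD : ∀ x : G, x * x = 1 → Commute x t → Commute x z → x ∈ D := by
    intro x hx hxt hxz
    have hin : ∀ y : G, orderOf y = 2 → y ∈ F → (∀ w ∈ F, Commute y w) → y ∈ D := by
      intro y hy hyF hyc
      refine hDmax (D ⊔ zpowers y) ?_ le_sup_left (sup_le hDF (zpowers_le.2 hyF)) (mem_sup_right (mem_zpowers y))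
      have hp : IsPGroup 2 (zpowers y) := IsPGroup.of_card (n := 1) (by rw [Nat.card_zpowers, hy, pow_one])
      refine hp.to_sup_of_normal_left' hDp ?_ |> fun h => by rwa [sup_comm] at h
      intro d hd
      rw [mem_normalizer_iff_map_conj_eq]
      refine le_antisymm ?_ ?_
      all_goals intro w hw
      · obtain ⟨w', hw', rfl⟩ := hw
        obtain ⟨i, rfl⟩ := mem_zpowers_iff.1 hw'
        have : Commute (y ^ i) d := (hyc d (hDF hd)).zpow_left i
        show d * y ^ i * d⁻¹ ∈ zpowers y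
        rw [← this.eq, mul_inv_cancel_right]
        exact hw'
      · obtain ⟨i, rfl⟩ := mem_zpowers_iff.1 hw
        refine ⟨y ^ i, hw, ?_⟩
        have : Commute (y ^ i) d := (hyc d (hDF hd)).zpow_left i
        show d * y ^ i * d⁻¹ = y ^ i
        rw [← this.eq, mul_inv_cancel_right]
    have hT : t ∈ D := hin t ht ⟨mem_centralizer_singleton_iff.2 rfl, mem_centralizer_singleton_iff.2 htz.eq⟩
      fun w hw => (mem_centralizer_singleton_iff.1 hw.1).symm
    have hZ' : z ∈ D := hin z hz ⟨mem_centralizer_singleton_iff.2 htz.eq.symm, mem_centralizer_singleton_iff.2 rfl⟩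
      fun w hw => (mem_centralizer_singleton_iff.1 hw.2).symm
    rcases honly x hx hxt hxz with rfl | rfl | rfl | rfl
    exacts [one_mem D, hT, hZ', mul_mem hT hZ']
  have hno : ∀ R : Subgroup G, Elem R → R ≤ F → False := fun R hR hRF => by
    have hle : (R : Set G) ⊆ {1, t, z, t * z} := fun x hx => by
      rcases honly x (hR.sq x hx) (mem_centralizer_singleton_iff.1 (hRF hx).1)
        (mem_centralizer_singleton_iff.1 (hRF hx).2) with h | h | h | h <;> simp [h]
    have h4 : ({1, t, z, t * z} : Set G).ncard ≤ 4 := by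
      refine (Set.ncard_insert_le _ _).trans ?_
      refine Nat.succ_le_succ ((Set.ncard_insert_le _ _).trans ?_)
      refine Nat.succ_le_succ ((Set.ncard_insert_le _ _).trans ?_)
      rw [Set.ncard_singleton]
    have := (Set.ncard_le_ncard hle (Set.toFinite _)).trans h4
    rw [← Nat.card_coe_set_eq] at this
    exact absurd (hR.rank.trans this) (by norm_num)
  obtain ⟨S1, hS1⟩ := ((hDp.comap_subtype (K := Z)).exists_le_sylow)
  have hSZ : (S : Subgroup G) ≤ Z := fun s hs => mem_centralizer_singleton_iff.2 (hzc s hs).symm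
  set S1' := (S1 : Subgroup Z).map Z.subtype with hS1'
  obtain ⟨S2, hS2⟩ := (S1.2.map Z.subtype).exists_le_sylow
  have hS2eq : S1' = (S2 : Subgroup G) := by
    refine eq_of_le_of_card_ge hS2 ?_
    obtain ⟨S', hS'⟩ := (S.2.comap_subtype (K := Z)).exists_le_sylow
    rw [hS1', Subgroup.card_subtype, Sylow.card_eq_multiplicity S1, ← Sylow.card_eq_multiplicity S',
      show Nat.card (S2 : Subgroup G) = Nat.card (S : Subgroup G) from
        S2.card_eq_multiplicity.trans S.card_eq_multiplicity.symm,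
      ← Nat.card_congr (subgroupOfEquivOfLe hSZ).toEquiv]
    exact Subgroup.card_le_of_le hS'
  have hS2Z : (S2 : Subgroup G) ≤ Z := hS2eq ▸ map_subtype_le _
  have hDS2 : D ≤ (S2 : Subgroup G) := fun d hd => by
    rw [← hS2eq]
    exact ⟨⟨d, (hDF hd).2⟩, hS1 hd, rfl⟩
  have hS2D : ∀ s ∈ (S2 : Subgroup G), Commute s t → s ∈ D := fun s hs hst =>
    hDmax ((S2 : Subgroup G) ⊓ F) (S2.2.to_le inf_le_left) (le_inf hDS2 hDF) inf_le_right
      ⟨hs, mem_centralizer_singleton_iff.2 hst.eq, hS2Z hs⟩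
  have htD : t ∈ D := hmemD t (Basic.inv_sq_one ht) (Commute.refl t) htz
  have htS2 := hDS2 htD
  -- `B` has a conjugate in a Sylow subgroup of `C(t)` over `D`
  set Ct := centralizer ({t} : Set G) with hCt
  obtain ⟨T, hT⟩ := ((hDp.comap_subtype (K := Ct)).exists_le_sylow)
  set T' := (T : Subgroup Ct).map Ct.subtype with hT'
  have hT'p : IsPGroup 2 T' := T.2.map _
  have hDT : D ≤ T' := fun d hd => ⟨⟨d, (hDF hd).1⟩, hT hd, rfl⟩
  have hT'C : T' ≤ Ct := map_subtype_le _
  have hlt : D.subgroupOf T' < ⊤ := by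
    rw [lt_top_iff_ne_top, Ne, subgroupOf_eq_top]
    intro hTD
    have hBC : B ≤ Ct := fun x hx => mem_centralizer_singleton_iff.2 (hB.comm x hx t htB)
    obtain ⟨T₁, hT₁⟩ := (hB.isPGroup.comap_subtype (K := Ct)).exists_le_sylow
    obtain ⟨c, hc⟩ := MulAction.exists_smul_eq Ct T₁ T
    refine hno _ (hB.map (c : G)) ?_
    rintro _ ⟨b, hb, rfl⟩
    refine hDF (hTD ?_)
    have h1 : c * ⟨b, hBC hb⟩ * c⁻¹ ∈ ((c • T₁ : Sylow 2 Ct) : Subgroup Ct) := by
      rw [Sylow.coe_subgroup_smul]; exact ⟨_, hT₁ hb, rfl⟩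
    rw [hc] at h1
    exact ⟨_, h1, by simp⟩
  haveI : Group.IsNilpotent T' := hT'p.isNilpotent
  obtain ⟨r, hr, hrD⟩ := SetLike.exists_of_lt (Group.normalizerCondition_of_isNilpotent _ hlt)
  have hrN : (r : G) ∈ normalizer (D : Set G) := by
    rw [mem_normalizer_iff]
    intro y
    constructor
    · intro hy
      simpa [mem_subgroupOf] using (mem_normalizer_iff.1 hr ⟨y, hDT hy⟩).1 (mem_subgroupOf.2 hy)
    · intro hy
      have hyT : y ∈ T' := by
        have := mul_mem (mul_mem (inv_mem r.2) (hDT hy)) r.2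
        simpa [mul_assoc] using this
      exact (mem_normalizer_iff.1 hr ⟨y, hyT⟩).2 (mem_subgroupOf.2 (by simpa using hy))
  have hrt : Commute (r : G) t := mem_centralizer_singleton_iff.1 (hT'C r.2)
  have hzD : z ∈ D := hmemD z (Basic.inv_sq_one hz) htz.symm (Commute.refl z)
  set z' := (r : G) * z * (r : G)⁻¹ with hz'
  have hz'D : z' ∈ D := (mem_normalizer_iff.1 hrN z).1 hzD
  have hz'2 : z' * z' = 1 := Basic.inv_sq_one ((Basic.orderOf_conj _ _).trans hz)
  have hz't : z' = t * z := by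
    rcases honly z' hz'2 (mem_centralizer_singleton_iff.1 (hDF hz'D).1)
      (mem_centralizer_singleton_iff.1 (hDF hz'D).2) with h | h | h | h
    · exact absurd (conj_eq_one_iff.1 h) (Basic.ne_one hz)
    · exfalso
      refine heq ?_
      calc t = (r : G)⁻¹ * (t * r) := by rw [← hrt.eq]; group
        _ = (r : G)⁻¹ * (z' * r) := by rw [h]
        _ = z := by rw [hz']; group
    · exfalso
      -- `r` would lie in `D`
      have hrZ : (r : G) ∈ Z := mem_centralizer_singleton_iff.2 (mul_inv_eq_iff_eq_mul.1 h)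
      refine hrD (mem_subgroupOf.2 (hDmax (T' ⊓ Z) (hT'p.to_le inf_le_left) (le_inf hDT fun d hd => (hDF hd).2)
        (inf_le_inf_right Z hT'C) ⟨r.2, hrZ⟩))
    · exact h
  -- the four group of `S2`
  have hzS2 : z ∈ (S2 : Subgroup G) := hDS2 hzD
  obtain ⟨g, hg⟩ := exists_le_sylow_map (S := S2) hB₀.isPGroup
  obtain ⟨z0, e0, hz0S, he0S, hz0, he0, hne0, hz0c, hsw0⟩ := exists_four (hB₀.map g) hg
  obtain ⟨A0, hA0, hA0S, hz0A, he0A, hA0e, -⟩ := exists_link hz0 he0 hne0 hz0S he0S hz0c hsw0 (hB₀.map g) hg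
  -- `t` is neither central nor in the four group
  have hnotcent : ∀ w ∈ (S2 : Subgroup G), (∀ a ∈ A0, Commute a w) → w = t → False := fun w _ hw e => by
    refine hno A0 hA0 fun a ha => ⟨mem_centralizer_singleton_iff.2 (e ▸ (hw a ha).eq), hS2Z (hA0S ha)⟩
  have hS2z : ∀ s ∈ (S2 : Subgroup G), Commute s z := fun s hs => mem_centralizer_singleton_iff.1 (hS2Z hs)
  have hz0z : z0 = z := by
    rcases honly z0 (Basic.inv_sq_one hz0) (hz0c t htS2) (hz0c z hzS2) with h | h | h | h
    · exact absurd h (Basic.ne_one hz0)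
    · exact (hnotcent z0 hz0S (fun a ha => (hz0c a (hA0S ha)).symm) h).elim
    · exact h
    · exfalso
      refine hnotcent (z0 * z) (mul_mem hz0S hzS2)
        (fun a ha => ((show Commute a z0 from (hz0c a (hA0S ha)).symm).mul_right (hS2z a (hA0S ha)))) ?_
      rw [h, mul_assoc, Basic.inv_sq_one hz, mul_one]
  subst hz0z
  have hte0 : ¬ Commute t e0 := fun h => by
    rcases honly e0 (Basic.inv_sq_one he0) h.symm (hS2z e0 he0S) with h' | h' | h' | h'
    · exact Basic.ne_one he0 h'
    · exact hnotcent e0 he0S (fun a ha => hA0e a ha) h'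
    · exact hne0 h'.symm
    · refine hnotcent (e0 * z0) (mul_mem he0S hz0S)
        (fun a ha => ((show Commute a e0 from hA0e a ha).mul_right (hS2z a (hA0S ha)))) ?_
      rw [h', mul_assoc, Basic.inv_sq_one hz0, mul_one]
  have hfix : ∀ x ∈ (S2 : Subgroup G), ∀ y ∈ (S2 : Subgroup G), ¬ Commute x e0 → ¬ Commute y e0 →
      Commute (x * y) e0 := by
    intro x hx y hy hxe hye
    have hxe' : x * e0 * x⁻¹ = e0 * z0 :=
      (hsw0 x hx).resolve_left fun h => hxe (mul_inv_eq_iff_eq_mul.1 h)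
    have hye' : y * e0 * y⁻¹ = e0 * z0 :=
      (hsw0 y hy).resolve_left fun h => hye (mul_inv_eq_iff_eq_mul.1 h)
    refine mul_inv_eq_iff_eq_mul.1 ?_
    calc x * y * e0 * (x * y)⁻¹ = x * (y * e0 * y⁻¹) * x⁻¹ := by group
      _ = (x * e0 * x⁻¹) * (x * z0 * x⁻¹) := by rw [hye']; group
      _ = e0 := by rw [hxe', (hS2z x hx).eq, mul_inv_cancel_right, mul_assoc, Basic.inv_sq_one hz0, mul_one]
  have hsq : ∀ x ∈ (S2 : Subgroup G), Commute (x * x) e0 := fun x hx => by
    by_cases h : Commute x e0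
    · exact h.mul_left h
    · exact hfix x hx x hx h h
  have htze : ¬ Commute (t * z0) e0 := fun h => hte0 (by
    have := h.mul_left (show Commute z0 e0 from hzc' hz0c he0S)
    rwa [mul_assoc, Basic.inv_sq_one hz0, mul_one] at this)
  -- elements of `D` commuting with `e0` square to one
  have hD0 : ∀ d ∈ D, Commute d e0 → d = 1 ∨ d = z0 := by
    intro d hd hde
    by_cases hd2 : d * d = 1
    · rcases honly d hd2 (mem_centralizer_singleton_iff.1 (hDF hd).1)
        (mem_centralizer_singleton_iff.1 (hDF hd).2) with h | h | h | h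
      · exact Or.inl h
      · exact absurd (h ▸ hde) hte0
      · exact Or.inr h
      · exact absurd (h ▸ hde) htze
    · exfalso
      obtain ⟨k, hk⟩ := IsPGroup.iff_orderOf.1 hDp ⟨d, hd⟩
      rw [Subgroup.orderOf_mk] at hk
      rcases k with _ | _ | k
      · rw [pow_zero, orderOf_eq_one_iff] at hk
        exact hd2 (by rw [hk, one_mul])
      · exact hd2 (Basic.inv_sq_one (by rw [hk]; norm_num))
      · set f := d ^ 2 ^ k with hf
        have hf2 : orderOf (f * f) = 2 := by
          rw [hf, ← pow_two, ← pow_mul, ← pow_succ, orderOf_pow' _ (by positivity), hk,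
            Nat.gcd_eq_right (pow_dvd_pow 2 (Nat.le_succ _)), pow_succ 2 (k + 1),
            Nat.mul_div_cancel_left _ (by positivity)]
        have hfD : f ∈ D := pow_mem hd _
        have hff := mul_mem hfD hfD
        rcases honly (f * f) (Basic.inv_sq_one hf2) (mem_centralizer_singleton_iff.1 (hDF hff).1)
          (mem_centralizer_singleton_iff.1 (hDF hff).2) with h | h | h | h
        · exact Basic.ne_one hf2 h
        · exact hte0 (h ▸ hsq f (hDS2 hfD))
        · -- `t * z0` would be a square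
          have hfr : (r : G) * f * (r : G)⁻¹ ∈ D := (mem_normalizer_iff.1 hrN f).1 hfD
          refine htze ?_
          rw [← hz't, hz', ← h, show (r : G) * (f * f) * (r : G)⁻¹ =
            ((r : G) * f * (r : G)⁻¹) * ((r : G) * f * (r : G)⁻¹) by group]
          exact hsq _ (hDS2 hfr)
        · exact htze (h ▸ hsq f (hDS2 hfD))
  refine false_of_small_centralizer S2.2 ⟨t, htS2⟩ ?_
    (B := (B₀.map (MulAut.conj g).toMonoidHom).subgroupOf S2)
    ⟨fun a ha b hb => Subtype.ext ((hB₀.map g).comm _ ha _ hb), fun a ha => Subtype.ext ((hB₀.map g).sq _ ha),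
      by rw [Nat.card_congr (subgroupOfEquivOfLe hg).toEquiv]; exact (hB₀.map g).rank⟩
  have hsub : ((centralizer ({⟨t, htS2⟩} : Set (S2 : Subgroup G))).map (S2 : Subgroup G).subtype : Set G)
      ⊆ {1, z0, t, t * z0} := by
    rintro _ ⟨s, hs, rfl⟩
    have hsD : (s : G) ∈ D := hS2D s s.2 (congrArg Subtype.val (mem_centralizer_singleton_iff.1 hs))
    by_cases hse : Commute (s : G) e0
    · rcases hD0 s hsD hse with h | h <;> simp [h]
    · rcases hD0 (t * s) (mul_mem htD hsD) (hfix t htS2 s s.2 hte0 hse) with h | h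
      · simp [eq_inv_of_mul_eq_one_right h, Basic.inv_eq ht]
      · have : (s : G) = t * z0 := by rw [← h, ← mul_assoc, Basic.inv_sq_one ht, one_mul]
        simp [this]
  rw [← Subgroup.card_subtype]
  exact card_le_four hsub
where
  hzc' {G : Type u} [Group G] {S : Sylow 2 G} {z e : G} (h : ∀ s ∈ (S : Subgroup G), z * s = s * z)
      (he : e ∈ (S : Subgroup G)) : Commute z e := h e he

/-- Rank at least three: all involution centralisers are 2-groups. -/
theorem isCIT_of_elem {B₀ : Subgroup G} (hB₀ : Elem B₀) : IsCIT G := by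
  haveI : Fact (Nat.Prime 2) := ⟨Nat.prime_two⟩
  obtain ⟨S, hS⟩ := hB₀.isPGroup.exists_le_sylow
  set W := WB B₀ with hW
  set M := normalizer (W : Set G) with hM
  have hWodd : Odd (Nat.card W) := odd_WB hI hB₀
  have hWS : ∀ t ∈ (S : Subgroup G), orderOf t = 2 → ∀ B : Subgroup G, Elem B → t ∈ B → WB B = W :=
    fun t htS ht B hB htB => WB_of_mem_sylow hG hI hB₀ hB₀ hS ht htS hB htB
  by_cases hW1 : W = ⊥
  · intro t ht
    obtain ⟨g, hg⟩ := exists_le_sylow_map (S := S)
      (IsPGroup.of_card (G := zpowers t) (p := 2) (n := 1) (by rw [Nat.card_zpowers, ht, pow_one]))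
    have htS := hg ⟨t, mem_zpowers t, rfl⟩
    obtain ⟨B, hB, htB⟩ := exists_elem hG hB₀ ht
    have h1 : WB (B.map (MulAut.conj g).toMonoidHom) = W :=
      hWS _ htS (by rw [MulEquiv.coe_toMonoidHom, MulEquiv.orderOf_eq, ht]) _ (hB.map g)
        (mem_map_of_mem _ htB)
    rw [← map_WB hI hB, hW1, map_eq_bot_iff_of_injective _ (MulAut.conj g).injective] at h1
    refine Gen.isPGroup_two_of_odd fun y hy => ?_
    have : (y : G) ∈ theta t := (mem_theta hI ht).2
      ⟨mem_centralizer_singleton_iff.1 y.2, by rwa [Subgroup.orderOf_coe]⟩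
    have := (le_bot_iff.2 h1) (theta_le_WB hI htB (Basic.ne_one ht) this)
    exact Subtype.ext (mem_bot.1 this)
  exfalso
  have hSM : (S : Subgroup G) ≤ M := fun s hs => by
    rw [hM, mem_normalizer_iff_map_conj_eq]
    refine (map_WB hI hB₀ s).trans (WB_eq_of_le_sylow hI (hB₀.map s) hB₀ ?_ hS)
    rintro _ ⟨b, hb, rfl⟩
    exact mul_mem (mul_mem hs (hS hb)) (inv_mem hs)
  obtain ⟨z, hz⟩ := CIT.exists_cenInv S (fun e => by
    have := Subgroup.card_le_of_le (hS.trans e.le)
    have := hB₀.rank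
    rw [Subgroup.card_bot] at *
    omega)
  have hMne : M ≠ ⊤ := fun e => by
    rcases (normalizer_eq_top_iff.1 e).eq_bot_or_eq_top with h | h
    · exact hW1 h
    · rw [h, Subgroup.card_top] at hWodd
      exact Nat.not_even_iff_odd.2 hWodd (even_iff_two_dvd.2 (two_dvd_card hG))
  have hcen : ∀ t ∈ (S : Subgroup G), orderOf t = 2 → centralizer ({t} : Set G) ≤ M := by
    intro t htS ht c hc
    obtain ⟨B, hB, htB⟩ := exists_elem hG hB₀ ht
    rw [hM, mem_normalizer_iff_map_conj_eq, ← hWS t htS ht B hB htB]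
    refine (map_WB hI hB c).trans (WB_eq_of_mem hI (hB.map c) hB ⟨t, htB, ?_⟩ htB (Basic.ne_one ht))
    show c * t * c⁻¹ = t
    exact mul_inv_eq_iff_eq_mul.2 (mem_centralizer_singleton_iff.1 hc)
  have hse : Cfsg.IsStronglyEmbedded M := by
    refine stronglyEmbedded_of hMne hSM hz (fun g hg => ?_) hcen
    obtain ⟨B, hB, hzB⟩ := exists_elem hG hB₀ hz.order
    rw [hM, mem_normalizer_iff_map_conj_eq]
    conv_lhs => rw [← hWS z hz.mem hz.order B hB hzB]
    exact (map_WB hI hB g).trans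
      (hWS _ hg ((Basic.orderOf_conj g z).trans hz.order) _ (hB.map g) (mem_map_of_mem _ hzB))
  -- odd elements centralising an involution of `M` lie in `W`
  have hcent : ∀ x ∈ M, Odd (orderOf x) → ∀ t ∈ M, orderOf t = 2 → Commute x t → x ∈ W := by
    intro x _ hx t htM ht hxt
    obtain ⟨m, hm, hmS⟩ := CIT.exists_conj_mem hSM htM ⟨1, by rw [ht, pow_one]⟩
    obtain ⟨B, hB, htB⟩ := exists_elem hG hB₀ ((Basic.orderOf_conj m t).trans ht)
    have h1 : m * x * m⁻¹ ∈ W := by
      rw [← hWS _ hmS ((Basic.orderOf_conj m t).trans ht) B hB htB]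
      refine theta_le_WB hI htB (Basic.ne_one ((Basic.orderOf_conj m t).trans ht)) ?_
      exact conj_mem_theta hI ht m ((mem_theta hI ht).2 ⟨hxt, hx⟩)
    simpa [mul_assoc] using (mem_normalizer_iff.1 (inv_mem hm) _).1 h1
  -- the quotient by `W`
  have hWM : W ≤ M := le_normalizer
  set W' := W.subgroupOf M with hW'
  haveI : W'.Normal := normal_subgroupOf_of_le_normalizer le_rfl
  set π := QuotientGroup.mk' W' with hπ
  have hker : ∀ x : M, π x = 1 ↔ (x : G) ∈ W := fun x => by
    rw [hπ, QuotientGroup.mk'_apply, QuotientGroup.eq_one_iff, hW', mem_subgroupOf]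
  have hlift : ∀ s : M ⧸ W', orderOf s = 2 → ∃ t : M, π t = s ∧ orderOf (t : G) = 2 := by
    intro s hs
    obtain ⟨y, rfl⟩ := QuotientGroup.mk'_surjective W' s
    obtain ⟨m, ⟨k, hk⟩, hm⟩ := SEOdd.exists_pow_two_part y 2 ⟨1, rfl⟩
    have hmk : π (y ^ m) = π y := by
      rw [map_pow]
      conv_rhs => rw [← pow_one (π y)]
      exact pow_eq_pow_iff_modEq.2 (by rw [hs]; exact hm)
    refine ⟨y ^ m, hmk, ?_⟩
    rw [Subgroup.orderOf_coe, hk]
    rcases k with _ | _ | k
    · exfalso
      rw [pow_zero, orderOf_eq_one_iff] at hk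
      rw [hk, map_one] at hmk
      exact Basic.ne_one hs hmk.symm
    · rfl
    · exfalso
      have h1 : ((y ^ m : M) : G) ^ 2 ∈ W := by
        have h2 := (hker ((y ^ m) ^ 2)).1 (by rw [map_pow, hmk, pow_two]; exact Basic.inv_sq_one hs)
        simpa using h2
      have h3 := SECore.odd_orderOf_of_mem hWodd h1
      rw [orderOf_pow' _ two_ne_zero, Subgroup.orderOf_coe, hk,
        Nat.gcd_eq_right (dvd_pow_self 2 (by omega)), pow_succ,
        Nat.mul_div_cancel _ two_pos] at h3
      exact Nat.not_even_iff_odd.2 h3 (Nat.even_pow.2 ⟨even_two, by omega⟩)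
  have hX : IsCIT (M ⧸ W') := by
    intro s hs
    obtain ⟨t, rfl, ht⟩ := hlift s hs
    refine Gen.isPGroup_two_of_odd fun y hy => ?_
    rw [← Subgroup.orderOf_coe] at hy
    obtain ⟨c, hc, hco⟩ := Gen.exists_odd_lift W' hy
    have hcomm : (c⁻¹ * t * c * t : M) ∈ W' := by
      rw [← QuotientGroup.eq_one_iff, ← QuotientGroup.mk'_apply, ← hπ, map_mul, map_mul, map_mul, map_inv,
        show π c = (y : M ⧸ W') from hc, mul_assoc (y : M ⧸ W')⁻¹,
        ← (mem_centralizer_singleton_iff.1 y.2), inv_mul_cancel_left]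
      exact Basic.inv_sq_one hs
    obtain ⟨w, hw, hwc⟩ := SECore.exists_fixed_coset (Basic.inv_sq_one ht) t.2 hWodd
      (y := (c : G)) (mem_subgroupOf.1 hcomm)
    have h1 := SECore.pow_mul_mem c.2 hw (orderOf (c : G))
    rw [pow_orderOf_eq_one, inv_one, one_mul] at h1
    have h2 : (c : G) * w ∈ W := hcent _ (mul_mem c.2 (hWM hw))
      (SECore.odd_orderOf_of_pow_mem hWodd (by rw [Subgroup.orderOf_coe]; exact hco) h1) t t.2 ht hwc
    have h3 : (c : G) ∈ W := by simpa using mul_mem h2 (inv_mem hw)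
    exact Subtype.ext (hc.symm.trans ((hker c).2 h3))
  -- the image of `B₀` and of the odd subgroup
  have hBM : B₀ ≤ M := hS.trans hSM
  have hBX : Elem ((B₀.subgroupOf M).map π) := by
    refine ⟨?_, ?_, ?_⟩
    · rintro _ ⟨a, ha, rfl⟩ _ ⟨b, hb, rfl⟩
      rw [← map_mul, ← map_mul]
      exact congrArg π (Subtype.ext (hB₀.comm _ ha _ hb))
    · rintro _ ⟨a, ha, rfl⟩
      rw [← map_mul, show a * a = 1 from Subtype.ext (hB₀.sq _ ha), map_one]
    · have hinj : Function.Injective (π.subgroupMap (B₀.subgroupOf M)) := by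
        refine (injective_iff_map_eq_one _).2 fun a ha => ?_
        have h1 : ((a : M) : G) ∈ W := (hker _).1 (congrArg Subtype.val ha)
        by_contra hne
        have h2 := SECore.odd_orderOf_of_mem hWodd h1
        rw [show orderOf ((a : M) : G) = 2 from hB₀.ord a.2 (fun e => hne (Subtype.ext (Subtype.ext e)))] at h2
        exact absurd h2 (by decide)
      refine hB₀.rank.trans ?_
      rw [← Nat.card_congr (subgroupOfEquivOfLe hBM).toEquiv]
      exact Nat.card_le_card_of_injective _ hinj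
  obtain ⟨u, huM, hu⟩ := StronglyEmbedded.exists_involution_notMem hse
  set D₀ := M ⊓ M.map (MulAut.conj u).toMonoidHom with hD₀
  have hD₀odd : Odd (Nat.card D₀) := hse.2.2 u huM
  set D := (D₀.subgroupOf M).map π with hDdef
  have hDodd : Odd (Nat.card D) := by
    refine hD₀odd.of_dvd_nat ((Subgroup.card_map_dvd _ _).trans ?_)
    rw [Nat.card_congr (subgroupOfEquivOfLe inf_le_left).toEquiv]
  have htrans : ∀ s t : M ⧸ W', orderOf s = 2 → orderOf t = 2 → ∃ d ∈ D, d * s * d⁻¹ = t := by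
    intro s t hs ht
    obtain ⟨s, rfl, hs'⟩ := hlift s hs
    obtain ⟨t, rfl, ht'⟩ := hlift t ht
    obtain ⟨d, hd, hde⟩ := StronglyEmbedded.exists_conj_in_inter hse hu huM hs' s.2 ht' t.2
    refine ⟨π ⟨d, hd.1⟩, mem_map_of_mem π (mem_subgroupOf.2 hd), ?_⟩
    rw [← map_inv, ← map_mul, ← map_mul]
    exact congrArg π (Subtype.ext hde)
  obtain ⟨H, ⟨t₀, ht₀H, ht₀⟩, hHse, hHcl⟩ := exists_closed hX D hDodd htrans hBX
  -- its preimage is strongly embedded in `G`
  set N := (H.comap π).map M.subtype with hN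
  have hNM : N ≤ M := map_subtype_le _
  have hmemN : ∀ x : M, (x : G) ∈ N ↔ π x ∈ H := fun x => by
    refine ⟨?_, fun h => mem_map_of_mem M.subtype h⟩
    rintro ⟨x', hx', e⟩
    rwa [show x = x' from Subtype.ext e.symm]
  obtain ⟨t₁, rfl, ht₁⟩ := hlift t₀ ht₀
  have ht₁N : (t₁ : G) ∈ N := (hmemN t₁).2 ht₀H
  have hNse : Cfsg.IsStronglyEmbedded N := by
    refine StronglyEmbedded.of_conj (fun e => hMne (top_le_iff.1 (e ▸ hNM))) ?_ ?_
    · rw [even_iff_two_dvd]
      have h1 := orderOf_dvd_natCard (⟨(t₁ : G), ht₁N⟩ : N)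
      rwa [Subgroup.orderOf_mk, ht₁] at h1
    · intro t ht ht2 g hg
      have hgM : g ∈ M := StronglyEmbedded.mem_of_conj hse (hNM ht) ht2 (hNM hg)
      have hπt : orderOf (π ⟨t, hNM ht⟩) = 2 := by
        rw [Basic.orderOf_two_iff]
        refine ⟨by rw [← map_mul, show (⟨t, hNM ht⟩ : M) * ⟨t, hNM ht⟩ = 1 from
          Subtype.ext (Basic.inv_sq_one ht2), map_one], fun e => ?_⟩
        have h2 := SECore.odd_orderOf_of_mem hWodd ((hker _).1 e)
        rw [show orderOf ((⟨t, hNM ht⟩ : M) : G) = 2 from ht2] at h2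
        exact absurd h2 (by decide)
      refine (hmemN ⟨g, hgM⟩).2 (hHse _ ((hmemN _).1 ht) hπt _ ?_)
      rw [← map_inv, ← map_mul, ← map_mul]
      exact (hmemN _).1 hg
  have hyp : SEOdd.Hyp N W := by
    refine
      { emb := hNse
        le := fun w hw => (hmemN ⟨w, hWM hw⟩).2 (by rw [(hker ⟨w, hWM hw⟩).2 hw]; exact one_mem H)
        norm := fun m hm w hw => (mem_normalizer_iff.1 (hNM hm) w).1 hw
        odd := hWodd
        cent := fun x hx hxo t ht ht2 hc => hcent x (hNM hx) hxo t (hNM ht) ht2 hc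
        pair := ?_
        closed := ?_ }
    · obtain ⟨B, hB, htB⟩ := exists_elem hG hB₀ ht₁
      obtain ⟨y, hy, hy1, hyt⟩ : ∃ y ∈ B, y ≠ 1 ∧ y ≠ (t₁ : G) := by
        by_contra! h
        have hsub : (B : Set G) ⊆ {1, (t₁ : G)} := fun y hy => by
          by_cases h1 : y = 1
          · exact Or.inl h1
          · exact Or.inr (h y hy h1)
        have h2 := Set.ncard_le_ncard hsub (Set.toFinite _)
        rw [← Nat.card_coe_set_eq, Set.ncard_pair (Ne.symm (Basic.ne_one ht₁))] at h2
        exact absurd (hB.rank.trans h2) (by norm_num)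
      exact ⟨t₁, y, ht₁N, StronglyEmbedded.mem_of_commute hNse ht₁N ht₁ (hB.comm y hy _ htB), ht₁,
        hB.ord hy hy1, hB.comm _ htB y hy, hyt.symm⟩
    · intro x hx y hy hx2 hy2
      have key : ∀ w : M, SEOdd.IsTwoMod W (w : G) ↔ ∃ k : ℕ, (π w) ^ 2 ^ k = 1 := fun w =>
        exists_congr fun k => by rw [← map_pow, hker]; simp
      obtain ⟨k, hk⟩ := hHcl _ ((hmemN ⟨x, hNM hx⟩).1 hx) _ ((hmemN ⟨y, hNM hy⟩).1 hy)
        ((key ⟨x, hNM hx⟩).1 hx2) ((key ⟨y, hNM hy⟩).1 hy2)
      exact (key (⟨x, hNM hx⟩ * ⟨y, hNM hy⟩)).2 ⟨k, by rw [map_mul]; exact hk⟩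
  have h1 := hyp.le_oddCore
  haveI : (Cfsg.oddCore G).Normal := PLocal.Cores.pPrimeCore_normal'
  rcases IsSimpleGroup.eq_bot_or_eq_top_of_normal (Cfsg.oddCore G) inferInstance with e | e
  · exact hW1 (le_bot_iff.1 (e ▸ h1))
  · have h2 : Odd (Nat.card (Cfsg.oddCore G)) := Cores.oddCore_odd
    rw [e, Subgroup.card_top] at h2
    exact Nat.not_even_iff_odd.2 h2 (even_iff_two_dvd.2 (two_dvd_card hG))

/-- The form used by the assembly of S3214. -/
theorem isCIT_of_rankThree (hB : ∃ B : Subgroup G, Nat.card B = 8 ∧ ∀ x ∈ B, x * x = 1) : IsCIT G := by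
  obtain ⟨B, hcard, hsq⟩ := hB
  refine isCIT_of_elem hG hI (B₀ := B) ⟨fun a ha b hb => ?_, hsq, hcard.ge⟩
  have e := hsq _ (mul_mem ha hb)
  calc a * b = (a * b)⁻¹ := eq_inv_of_mul_eq_one_left e
    _ = b⁻¹ * a⁻¹ := mul_inv_rev a b
    _ = b * a := by rw [inv_eq_of_mul_eq_one_right (hsq a ha), inv_eq_of_mul_eq_one_right (hsq b hb)]

end Cfsg.Agent.CIT.SThreeTwo
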