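import Cfsg.Agent.Lib.CIT.SThreeTwo.Theta
import Cfsg.Agent.Lib.CIT.Theorem
import Cfsg.Agent.Lib.CIT.Socle
import Cfsg.Agent.Lib.CIT.IdOrder

/-!
# S3214, rank at least three: a group with 2-groups as involution centralisers and an odd subgroup
transitive on its involutions

Such a group `X` with an elementary abelian subgroup of order eight has a 2-closed subgroup containing
the conjugators of its involutions (`X` itself, or the normaliser of a Sylow 2-subgroup of its socle).
-/

set_option autoImplicit false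
set_option linter.style.haveILetI false
set_option linter.unusedSectionVars false

namespace Cfsg.Agent.CIT.SThreeTwo

open Subgroup Cfsg.Agent.Involutions

universe u

variable {X : Type u} [Group X] [Finite X]

/-- The 2-elements of `H` are closed under products. -/
def Closed (H : Subgroup X) : Prop :=
  ∀ a ∈ H, ∀ b ∈ H, (∃ k : ℕ, a ^ 2 ^ k = 1) → (∃ k : ℕ, b ^ 2 ^ k = 1) → ∃ k : ℕ, (a * b) ^ 2 ^ k = 1

/-- A subgroup whose involutions lie in its 2-core normalises a Sylow 2-subgroup. -/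
theorem le_normalizer_of_involutions (hC : IsCIT X) {H : Subgroup X} {S : Sylow 2 H}
    (hinv : ∀ t : H, orderOf t = 2 → t ∈ Cfsg.pCore 2 H) : (S : Subgroup H).Normal := by
  haveI : Fact (Nat.Prime 2) := ⟨Nat.prime_two⟩
  refine Subgroup.normalizer_eq_top_iff.1 (top_le_iff.1 ?_)
  refine le_normalizer_of_core (G := H) (hC.subgroup H) le_top ?_
  intro x _ hx
  exact ⟨⟨x, mem_top x⟩, TimesPSLTwo.Affine.le_pCore_two
    ((TimesPSLTwo.Affine.pCore_two_normal H).comap (⊤ : Subgroup H).subtype)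
    ((TimesPSLTwo.Affine.pCore_two_isPGroup H).comap_of_injective _ (⊤ : Subgroup H).subtype_injective)
    (hinv x hx), rfl⟩
where
  /-- The argument of `CIT.le_normalizer_of_stronglyEmbedded`. -/
  le_normalizer_of_core {G : Type u} [Group G] [Finite G] (hC : IsCIT G) {H : Subgroup G}
      {S : Sylow 2 G} (hSH : (S : Subgroup G) ≤ H)
      (hinv : ∀ x ∈ H, orderOf x = 2 → x ∈ Cfsg.pCoreOf 2 H) :
      H ≤ normalizer ((S : Subgroup G) : Set G) := by
    haveI : Fact (Nat.Prime 2) := ⟨Nat.prime_two⟩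
    set R := Cfsg.pCoreOf 2 H with hRdef
    have hRH : R ≤ H := CharP.pCoreOf_le 2 H
    have hRn : H ≤ normalizer (R : Set G) := CharP.le_normalizer_pCoreOf 2 H
    have hRp : IsPGroup 2 R := CharP.isPGroup_pCoreOf 2 H
    by_cases hle : (S : Subgroup G) ≤ R
    · rwa [← S.3 hRp hle]
    exfalso
    -- a 2-element outside the core with square inside it
    obtain ⟨s₀, hs₀, hs₀R⟩ := SetLike.not_le_iff_exists.1 hle
    obtain ⟨k, hk⟩ := S.2 ⟨s₀, hs₀⟩
    replace hk : s₀ ^ 2 ^ k = 1 := congrArg Subtype.val hk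
    obtain ⟨j, hj⟩ : ∃ j, s₀ ^ 2 ^ j ∉ R ∧ s₀ ^ 2 ^ (j + 1) ∈ R := by
      by_contra! hall
      have : ∀ j, s₀ ^ 2 ^ j ∉ R := fun j => by
        induction j with
        | zero => simpa using hs₀R
        | succ j ih => exact hall j ih
      exact this k (hk ▸ one_mem _)
    set s := s₀ ^ 2 ^ j with hsdef
    have hsS : s ∈ (S : Subgroup G) := pow_mem hs₀ _
    have hss : s * s ∈ R := by rw [← sq, hsdef, ← pow_mul, ← pow_succ]; exact hj.2
    set N := Cfsg.pCore 2 H with hN
    haveI : N.Normal := Cores.pCore_normal 2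
    have hNR : ∀ x : H, x ∈ N ↔ (x : G) ∈ R := fun x => by
      refine ⟨fun hx => ⟨x, hx, rfl⟩, ?_⟩
      rintro ⟨y, hy, he⟩
      rwa [← Subtype.ext he]
    set π := QuotientGroup.mk' N
    set σ : H := ⟨s, hSH hsS⟩
    have hπ1 : ∀ x : H, π x = 1 ↔ (x : G) ∈ R := fun x => by
      rw [← hNR]; exact QuotientGroup.eq_one_iff x
    have hσ2 : orderOf (π σ) = 2 := orderOf_eq_prime (by rw [← map_pow, hπ1, sq]; exact hss)
      (fun e => hj.1 ((hπ1 σ).1 e))
    obtain ⟨η, hη1, hηodd, hηinv⟩ := BaerSuzuki.exists_inverted_odd (π σ) hσ2 fun M hM hM2 hmem => by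
      haveI := hM
      have h := Cores.le_pCore (p := 2) (N := M) hM2 hmem
      rw [Cores.pCore_quotient_self] at h
      exact Basic.ne_one hσ2 (mem_bot.1 h)
    obtain ⟨y, rfl⟩ := QuotientGroup.mk'_surjective N η
    -- an element commuting with such a lift is trivial if it is a 2-element
    have hfree : ∀ x : G, (∃ i : ℕ, orderOf x = 2 ^ i) → Commute (y : G) x → x = 1 := by
      intro x hx hxy
      by_contra hx1
      obtain ⟨i, hi⟩ := two_power_of_commute hC hx hx1 hxy
      rw [Subgroup.orderOf_coe] at hi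
      have hd : orderOf (π y) ∣ 2 ^ i := hi ▸ orderOf_map_dvd π y
      exact hη1 (orderOf_eq_one_iff.1 (Nat.eq_one_of_dvd_coprimes
        ((Nat.coprime_two_right.2 hηodd).pow_right i) dvd_rfl hd))
    have hR2 : ∀ r ∈ R, ∃ i : ℕ, orderOf r = 2 ^ i := fun r hr => by
      obtain ⟨i, hi⟩ := IsPGroup.iff_orderOf.1 hRp ⟨r, hr⟩
      exact ⟨i, by rw [← hi, Subgroup.orderOf_mk]⟩
    -- conjugation by the core covers the coset of the lift
    let C := {g : G // (y : G)⁻¹ * g ∈ R}
    have hconj : ∀ r : R, (y : G)⁻¹ * ((r : G) * y * (r : G)⁻¹) ∈ R := fun r => by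
      have := (mem_normalizer_iff.1 (inv_mem (hRn y.2)) (r : G)).1 r.2
      rw [inv_inv] at this
      rw [show (y : G)⁻¹ * ((r : G) * y * (r : G)⁻¹) = ((y : G)⁻¹ * r * y) * (r : G)⁻¹ by group]
      exact mul_mem this (inv_mem r.2)
    let f : R → C := fun r => ⟨(r : G) * y * (r : G)⁻¹, hconj r⟩
    have hf : Function.Injective f := fun a b e => by
      have e' : (a : G) * y * (a : G)⁻¹ = b * y * (b : G)⁻¹ := congrArg Subtype.val e
      have := hfree ((b : G)⁻¹ * a) (hR2 _ (mul_mem (inv_mem b.2) a.2)) (by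
        show (y : G) * ((b : G)⁻¹ * a) = (b : G)⁻¹ * a * y
        calc (y : G) * ((b : G)⁻¹ * a) = (b : G)⁻¹ * ((b : G) * y * (b : G)⁻¹) * a := by group
          _ = (b : G)⁻¹ * ((a : G) * y * (a : G)⁻¹) * a := by rw [e']
          _ = _ := by group)
      exact Subtype.ext (inv_mul_eq_one.1 this).symm
    have hcard : Nat.card R = Nat.card C := Nat.card_congr
      { toFun := fun r => ⟨(y : G) * r, by simp⟩
        invFun := fun g => ⟨(y : G)⁻¹ * g.1, g.2⟩
        left_inv := fun r => Subtype.ext (inv_mul_cancel_left _ _)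
        right_inv := fun g => Subtype.ext (mul_inv_cancel_left _ _) }
    have hmem : (y : G)⁻¹ * (s * y * s⁻¹)⁻¹ ∈ R := by
      refine (hπ1 (y⁻¹ * (σ * y * σ⁻¹)⁻¹)).1 ?_
      rw [map_mul, map_inv, map_inv, map_mul, map_mul, map_inv, hηinv, inv_inv, inv_mul_cancel]
    obtain ⟨r, hr⟩ := (Nat.bijective_iff_injective_and_card f).2 ⟨hf, hcard⟩ |>.2 ⟨_, hmem⟩
    have hr' : (r : G) * y * (r : G)⁻¹ = (s * y * s⁻¹)⁻¹ := congrArg Subtype.val hr
    set x := (r : G)⁻¹ * s with hxdef
    have hxy : x * y * x⁻¹ = (y : G)⁻¹ := by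
      calc x * y * x⁻¹ = (r : G)⁻¹ * (s * y * s⁻¹) * r := by rw [hxdef]; group
        _ = (r : G)⁻¹ * ((r : G) * y * (r : G)⁻¹)⁻¹ * r := by rw [hr', inv_inv]
        _ = (y : G)⁻¹ := by group
    have hxR : x ∉ R := fun h => hj.1 (by
      rw [show s = (r : G) * x by rw [hxdef, mul_inv_cancel_left]]
      exact mul_mem r.2 h)
    have hxH : x ∈ H := mul_mem (inv_mem (hRH r.2)) (hSH hsS)
    have hRS : R ≤ S := by
      haveI := S.2
      have := CharP.pCoreOf_le_of_isSylIn (p := 2) (T := (S : Subgroup G)) (H := H)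
        ⟨S.subtype hSH, by rw [Sylow.coe_subtype, map_subgroupOf_eq_of_le hSH]⟩
      exact this
    obtain ⟨i, hi⟩ := IsPGroup.iff_orderOf.1 S.2 ⟨x, mul_mem (inv_mem (hRS r.2)) hsS⟩
    rw [Subgroup.orderOf_mk] at hi
    have hxx : x * x = 1 := by
      refine hfree _ ?_ ?_
      · obtain ⟨l, hl⟩ := IsPGroup.iff_orderOf.1 S.2
          ⟨x * x, mul_mem (mul_mem (inv_mem (hRS r.2)) hsS) (mul_mem (inv_mem (hRS r.2)) hsS)⟩
        exact ⟨l, by rw [← hl, Subgroup.orderOf_mk]⟩
      · show (y : G) * (x * x) = x * x * y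
        refine (mul_inv_eq_iff_eq_mul.1 ?_).symm
        calc x * x * y * (x * x)⁻¹ = x * (x * y * x⁻¹) * x⁻¹ := by group
          _ = x * (y : G)⁻¹ * x⁻¹ := by rw [hxy]
          _ = (x * y * x⁻¹)⁻¹ := by group
          _ = y := by rw [hxy, inv_inv]
    exact hxR (hinv x hxH (Basic.orderOf_two_iff.2 ⟨hxx, fun e => hxR (e ▸ one_mem _)⟩))

theorem closed_of_normal {H : Subgroup X} {S : Sylow 2 H} (hS : (S : Subgroup H).Normal) : Closed H := by
  haveI : Fact (Nat.Prime 2) := ⟨Nat.prime_two⟩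
  have hmem : ∀ a : H, (∃ k : ℕ, a ^ 2 ^ k = 1) → a ∈ (S : Subgroup H) := by
    rintro a ⟨k, hk⟩
    obtain ⟨j, -, hj⟩ := (Nat.dvd_prime_pow Nat.prime_two).1 (orderOf_dvd_of_pow_eq_one hk)
    have hp : IsPGroup 2 (zpowers a) := IsPGroup.of_card (n := j) (by rw [Nat.card_zpowers, hj])
    obtain ⟨T, hT⟩ := hp.exists_le_sylow
    haveI := S.unique_of_normal hS
    rw [Subsingleton.elim S T]
    exact hT (mem_zpowers a)
  intro a ha b hb ⟨k, hk⟩ ⟨l, hl⟩
  have hab := mul_mem (hmem ⟨a, ha⟩ ⟨k, Subtype.ext (by simpa using hk)⟩)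
    (hmem ⟨b, hb⟩ ⟨l, Subtype.ext (by simpa using hl)⟩)
  obtain ⟨j, hj⟩ := S.2 ⟨_, hab⟩
  exact ⟨j, by simpa using congrArg (fun w : (S : Subgroup H) => ((w : H) : X)) hj⟩

theorem closed_of_involutions (hC : IsCIT X) {H : Subgroup X}
    (hinv : ∀ t : H, orderOf t = 2 → t ∈ Cfsg.pCore 2 H) : Closed H := by
  obtain ⟨S⟩ := (inferInstance : Nonempty (Sylow 2 H))
  exact closed_of_normal (S := S) (le_normalizer_of_involutions hC hinv)

/-- No large elementary subgroup in a group with an involution whose centraliser has order four. -/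
theorem false_of_small_centralizer {P : Type u} [Group P] [Finite P] (hP : IsPGroup 2 P) (x : P)
    (hx : Nat.card (centralizer ({x} : Set P)) ≤ 4) {B : Subgroup P} (hB : Elem B) : False := by
  rcases CentFour.structure_of_small_centralizer hP x hx with h | ⟨m, a, -, ha, hcard, -, -⟩
  · have := Subgroup.card_le_card_group B
    have := hB.rank
    omega
  · have hA : Nat.card (zpowers a) = 2 ^ (m + 2) := by rw [Nat.card_zpowers, ha]
    have hidx : (zpowers a).index = 2 := by
      have h := (zpowers a).card_mul_index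
      rw [hA, hcard, pow_succ 2 (m + 2)] at h
      exact Nat.eq_of_mul_eq_mul_left (by positivity) h
    have hle : Nat.card (B ⊓ zpowers a : Subgroup P) ≤ 2 := by
      haveI : IsCyclic (B ⊓ zpowers a : Subgroup P) :=
        isCyclic_of_injective (Subgroup.inclusion inf_le_right) (Subgroup.inclusion_injective _)
      obtain ⟨g, hg⟩ := IsCyclic.exists_generator (α := (B ⊓ zpowers a : Subgroup P))
      rw [← orderOf_eq_card_of_forall_mem_zpowers hg]
      exact Nat.le_of_dvd two_pos (orderOf_dvd_of_pow_eq_one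
        (Subtype.ext (by simpa [pow_two] using hB.sq _ g.2.1)))
    have h1 : Nat.card B ≤ 2 * Nat.card (B ⊓ zpowers a : Subgroup P) := by
      have h2 := (zpowers a).relIndex_mul_index (le_top)
      have h3 : (zpowers a).relIndex B ≤ 2 := by
        rw [← hidx]
        exact relIndex_le_of_le_right le_top (by rw [relIndex_top_right, hidx]; norm_num) |>.trans_eq
          (relIndex_top_right _)
      have h4 := (zpowers a).subgroupOf B |>.card_mul_index
      rw [Nat.card_congr (subgroupOfEquivOfLe (H := B ⊓ zpowers a) inf_le_left).toEquiv.symm,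
        inf_subgroupOf_left]
      calc Nat.card B = Nat.card ((zpowers a).subgroupOf B) * (zpowers a).relIndex B := h4.symm
        _ ≤ Nat.card ((zpowers a).subgroupOf B) * 2 := Nat.mul_le_mul_left _ h3
        _ = _ := mul_comm _ _
    have := hB.rank
    omega

/-- The configuration of rank one has no large elementary subgroups. -/
theorem false_of_rankOne {L : Type u} [Group L] [Finite L] [IsSimpleGroup L] (hna : ¬ IsMulCommutative L)
    (hC : IsCIT L) {U U' : Sylow 2 L} {D S₀ : Subgroup L} (hM : MainConfig U U' D S₀)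
    (hT : ThreeOffender (normalizer (D : Set L)) D S₀) {B : Subgroup L} (hB : Elem B) : False := by
  haveI : Fact (Nat.Prime 2) := ⟨Nat.prime_two⟩
  set N := normalizer (D : Set L) with hN
  set W := Cfsg.omegaCenterOf D with hW
  have hS₀U : S₀ ≤ (U : Subgroup L) := hM.S₀_eq ▸ inf_le_left
  have hS₀2 : IsPGroup 2 S₀ := U.2.to_le hS₀U
  have hWS : W ≤ S₀ := hT.W_le.trans hT.R_le_P
  have hS₀W : S₀ ≤ normalizer (W : Set L) := (hM.S₀_eq ▸ inf_le_right).trans hT.W_normal
  haveI : (W.subgroupOf S₀).Normal := normal_subgroupOf_of_le_normalizer hS₀W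
  haveI := hS₀2.isNilpotent
  obtain ⟨⟨⟨z, hzS⟩, hzW, hzc⟩, hz1⟩ := (Subgroup.ne_bot_iff_exists_ne_one).1
    (Cores.inf_center_ne_bot (G := S₀) (N := W.subgroupOf S₀) (fun h => by
      have h1 : Nat.card (W.subgroupOf S₀) = 4 := by
        rw [Nat.card_congr (subgroupOfEquivOfLe hWS).toEquiv]; exact hT.W_card
      rw [h, Subgroup.card_bot] at h1
      omega))
  have hcardN : 3 ∣ Nat.card N := by rw [hT.card_M]; exact Dvd.dvd.mul_right (by norm_num) _
  haveI : Fact (Nat.Prime 3) := ⟨Nat.prime_three⟩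
  obtain ⟨y, hy⟩ := exists_prime_orderOf_dvd_card' 3 hcardN
  obtain ⟨A, hAS, hA2, -, hAD⟩ := hT.four
  obtain ⟨a, haA, haD⟩ := SetLike.not_le_iff_exists.1 hAD
  have d : RankOneData U D W z :=
    { R_le := hM.D_eq ▸ inf_le_left
      R_cent := hM.D_cent
      W_le := hT.W_le
      W_card := hT.W_card
      W_sq := hT.W_sq
      W_comm := hT.W_cent
      W_normal := fun g hg x hx => (mem_normalizer_iff.1 (hT.W_normal hg) x).1 hx
      cent_W := fun g hg h => hT.cent_W.le
        ⟨mem_centralizer_iff.2 fun x hx => (h x hx).symm, hg⟩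
      inv_four := hT.involutions
      three := ⟨y, y.2, by rw [Subgroup.orderOf_coe, hy]⟩
      exists_out := ⟨a, hS₀U (hAS haA), (hM.S₀_eq.le (hAS haA)).2, haD, hA2 a haA⟩
      z_mem := hzW
      z_ne := fun h => hz1 (Subtype.ext (Subtype.ext h))
      z_cent := fun g hg hgn => (congrArg Subtype.val
        (mem_center_iff.1 hzc ⟨g, hM.S₀_eq.ge ⟨hg, hgn⟩⟩)).symm }
  obtain ⟨x, hxU, -, hcard⟩ : ∃ x ∈ (U : Subgroup L), orderOf x = 2 ∧
      Nat.card ((U : Subgroup L) ⊓ centralizer ({x} : Set L) : Subgroup L) = 4 := by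
    by_cases hle : (U : Subgroup L) ≤ normalizer (D : Set L)
    · exact d.exists_four_of_le hna hC hle
    · exact d.exists_four_of_not_le hC hle
  obtain ⟨T, hT'⟩ := hB.isPGroup.exists_le_sylow
  obtain ⟨g, hg⟩ := MulAction.exists_smul_eq L T U
  have hBU : B.map (MulAut.conj g).toMonoidHom ≤ (U : Subgroup L) := by
    rw [← hg, Sylow.coe_subgroup_smul]
    exact map_mono hT'
  refine false_of_small_centralizer U.2 ⟨x, hxU⟩ ?_
    (B := (B.map (MulAut.conj g).toMonoidHom).subgroupOf U)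
    ⟨fun a ha b hb => Subtype.ext ((hB.map g).comm _ ha _ hb), fun a ha => Subtype.ext ((hB.map g).sq _ ha),
      by rw [Nat.card_congr (subgroupOfEquivOfLe hBU).toEquiv]; exact (hB.map g).rank⟩
  rw [← hcard]
  refine Nat.card_le_card_of_injective (fun c => ⟨(c.1 : L), c.1.2, mem_centralizer_singleton_iff.2
    (congrArg Subtype.val (mem_centralizer_singleton_iff.1 c.2))⟩) ?_
  intro c c' h
  exact Subtype.ext (Subtype.ext (congrArg Subtype.val h :))

/-- `PSL₃(4)` has no subgroup of odd order transitive on its involutions. -/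
theorem false_of_lThreeFour {L : Type u} [Group L] [Finite L] {V : Sylow 2 L} {R A : Subgroup L}
    (h : LThreeFour V R A) (D : Subgroup L) (hD : Odd (Nat.card D))
    (htrans : ∀ s t : L, orderOf s = 2 → orderOf t = 2 → ∃ d ∈ D, d * s * d⁻¹ = t) : False := by
  have hG := h.card_eq
  obtain ⟨z, hz, hz1⟩ := h.exists_mem_Z
  have hz2 : orderOf z = 2 := Basic.orderOf_two_iff.2 ⟨h.R_sq z hz.1, hz1⟩
  have hC : Nat.card (centralizer ({z} : Set L)) = 64 := by rw [h.cent_z z hz hz1]; exact h.card_U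
  have hidx : (centralizer ({z} : Set L)).index = 315 := by
    have := (centralizer ({z} : Set L)).card_mul_index
    rw [hC, hG] at this
    omega
  have hsurj : ∀ q : L ⧸ centralizer ({z} : Set L), ∃ d : D, ((d : L) : L ⧸ centralizer ({z} : Set L)) = q := by
    intro q
    obtain ⟨g, rfl⟩ := QuotientGroup.mk_surjective q
    obtain ⟨d, hd, hde⟩ := htrans z (g * z * g⁻¹) hz2 ((Basic.orderOf_conj g z).trans hz2)
    refine ⟨⟨d, hd⟩, QuotientGroup.eq.2 (mem_centralizer_singleton_iff.2 ?_)⟩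
    show d⁻¹ * g * z = z * (d⁻¹ * g)
    calc d⁻¹ * g * z = d⁻¹ * (g * z * g⁻¹) * g := by group
      _ = d⁻¹ * (d * z * d⁻¹) * g := by rw [hde]
      _ = _ := by group
  have h315 : 315 ≤ Nat.card D := by
    rw [← hidx, Subgroup.index_eq_card]
    exact Nat.card_le_card_of_surjective _ hsurj
  have hDdvd : Nat.card D ∣ 315 := by
    have h1 : Nat.card D ∣ 64 * 315 := by
      have := Subgroup.card_subgroup_dvd_card D
      rwa [hG] at this
    refine Nat.Coprime.dvd_of_dvd_mul_left ?_ h1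
    rw [show (64 : ℕ) = 2 ^ 6 by norm_num]
    exact (Nat.coprime_two_right.2 hD).pow_right 6
  have hD315 : Nat.card D = 315 := le_antisymm (Nat.le_of_dvd (by norm_num) hDdvd) h315
  set K := normalizer (R : Set L) with hK
  have hKidx : K.index = 21 := by
    have := K.card_mul_index
    rw [h.norm_R, hG] at this
    omega
  have hrel : K.relIndex D ≤ 21 := by
    have := relIndex_le_of_le_right (H := K) (le_top : D ≤ ⊤) (by rw [relIndex_top_right, hKidx]; norm_num)
    rwa [relIndex_top_right, hKidx] at this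
  have hint : Nat.card (K.subgroupOf D) * K.relIndex D = 315 := by
    rw [← hD315]; exact (K.subgroupOf D).card_mul_index
  have hdvd : Nat.card (K.subgroupOf D) ∣ 15 := by
    have h1 : Nat.card (K.subgroupOf D) ∣ 315 := Dvd.intro _ hint
    have h2 : Nat.card (K.subgroupOf D) ∣ 960 := by
      rw [← h.norm_R, ← inf_subgroupOf_right, Nat.card_congr (subgroupOfEquivOfLe inf_le_right).toEquiv]
      exact card_dvd_of_le inf_le_left
    exact (Nat.dvd_gcd h1 h2).trans (by norm_num)
  have hc : Nat.card (K.subgroupOf D) = 15 := by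
    have := Nat.le_of_dvd (by norm_num) hdvd
    nlinarith
  rw [← inf_subgroupOf_right, Nat.card_congr (subgroupOfEquivOfLe inf_le_right).toEquiv] at hc
  exact h.false_of_fifteen inf_le_left hc

/-- The socle case: a strongly embedded Sylow normaliser. -/
theorem exists_sylow_normalizer {L : Type u} [Group L] [Finite L] [IsSimpleGroup L]
    (hna : ¬ IsMulCommutative L) (hC : IsCIT L) {B : Subgroup L} (hB : Elem B) :
    (∃ S : Sylow 2 L, Cfsg.IsStronglyEmbedded (normalizer ((S : Subgroup L) : Set L))) ∨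
      ∃ (V : Sylow 2 L) (R A : Subgroup L), LThreeFour V R A := by
  have hL : ListBelow.{u} (Nat.card L) := fun H _ _ _ _ hH hCH => citTheorem H hH hCH
  rcases dichotomy hna hC hL offenderLemma with h | ⟨U, U', D, S₀, hU⟩
  · exact Or.inl h
  rcases offenderLemma L hC hL _ D S₀ hU.offender with h | ⟨n, A, h⟩
  · exact (false_of_rankOne hna hC hU h hB).elim
  · exact Or.inr (naturalInput L hna hC hL offenderLemma U U' D S₀ A n hU h)

/-- The subgroup with 2-closed 2-elements. -/
theorem exists_closed (hX : IsCIT X) (D : Subgroup X) (hD : Odd (Nat.card D))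
    (htrans : ∀ s t : X, orderOf s = 2 → orderOf t = 2 → ∃ d ∈ D, d * s * d⁻¹ = t)
    {B : Subgroup X} (hB : Elem B) :
    ∃ H : Subgroup X, (∃ t ∈ H, orderOf t = 2) ∧
      (∀ t ∈ H, orderOf t = 2 → ∀ g : X, g * t * g⁻¹ ∈ H → g ∈ H) ∧ Closed H := by
  haveI : Fact (Nat.Prime 2) := ⟨Nat.prime_two⟩
  obtain ⟨a, b, haB, hbB, ha1, hb1, hab⟩ : ∃ a b : X, a ∈ B ∧ b ∈ B ∧ a ≠ 1 ∧ b ≠ 1 ∧ a ≠ b := by
    by_contra! h
    haveI : Nontrivial B := Finite.one_lt_card_iff_nontrivial.1 (by have := hB.rank; omega)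
    obtain ⟨a, ha⟩ := exists_ne (1 : B)
    have : Nat.card B ≤ 2 := by
      rw [← Set.ncard_pair ha, ← Nat.card_univ (α := B), Nat.card_coe_set_eq]
      refine Set.ncard_le_ncard (fun x _ => ?_) (Set.toFinite _)
      by_cases hx : x = 1
      · exact Or.inr hx
      · exact Or.inl (Subtype.ext (h a x a.2 x.2 (fun e => ha (Subtype.ext e))
          (fun e => hx (Subtype.ext e))).symm)
    have := hB.rank
    omega
  have ha := hB.ord haB ha1
  by_cases hR : Cfsg.pCore 2 X = ⊥
  swap
  · -- all involutions lie in the 2-core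
    refine ⟨⊤, ⟨a, mem_top a, ha⟩, fun _ _ _ g _ => mem_top g, closed_of_involutions hX fun t ht => ?_⟩
    haveI : Nontrivial (Cfsg.pCore 2 X) := (nontrivial_iff_ne_bot _).2 hR
    obtain ⟨n, hn, hcard⟩ := (TimesPSLTwo.Affine.pCore_two_isPGroup X).nontrivial_iff_card.1 inferInstance
    obtain ⟨⟨s, hsR⟩, hs⟩ := exists_prime_orderOf_dvd_card' (G := Cfsg.pCore 2 X) 2
      (hcard ▸ dvd_pow_self 2 (by omega))
    rw [Subgroup.orderOf_mk] at hs
    obtain ⟨d, -, hd⟩ := htrans s (t : X) hs (by rw [Subgroup.orderOf_coe]; exact ht)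
    refine TimesPSLTwo.Affine.le_pCore_two
      ((TimesPSLTwo.Affine.pCore_two_normal X).comap (⊤ : Subgroup X).subtype)
      ((TimesPSLTwo.Affine.pCore_two_isPGroup X).comap_of_injective _ (⊤ : Subgroup X).subtype_injective) ?_
    show (t : X) ∈ Cfsg.pCore 2 X
    rw [← hd]
    exact (TimesPSLTwo.Affine.pCore_two_normal X).conj_mem s hsR d
  obtain ⟨L, hLn, hLs, hLna, hLC, -, -⟩ := CIT.socle hX hR ha (hB.ord hbB hb1) hab (hB.comm a haB b hbB)
  haveI := hLn
  haveI := hLs
  -- all involutions lie in the socle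
  obtain ⟨s0, hs0L, hs0⟩ := exists_involution_mem (N := L) (fun hodd =>
    Nat.not_even_iff_odd.2 hodd (even_iff_two_dvd.2 (two_dvd_card hLna)))
  have hinvL : ∀ t : X, orderOf t = 2 → t ∈ L := fun t ht => by
    obtain ⟨d, -, hd⟩ := htrans s0 t hs0 ht
    exact hd ▸ hLn.conj_mem s0 hs0L d
  have hBL : B ≤ L := fun x hx => by
    by_cases h1 : x = 1
    · exact h1 ▸ one_mem L
    · exact hinvL x (hB.ord hx h1)
  have hBL' : Elem (B.subgroupOf L) :=
    ⟨fun a ha b hb => Subtype.ext (hB.comm _ ha _ hb), fun a ha => Subtype.ext (hB.sq _ ha),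
      by rw [Nat.card_congr (subgroupOfEquivOfLe hBL).toEquiv]; exact hB.rank⟩
  rcases exists_sylow_normalizer hLna hLC hBL' with ⟨S, hS⟩ | ⟨V, R, A, h⟩
  · set N := normalizer ((S : Subgroup L) : Set L) with hN
    set S' := (S : Subgroup L).map L.subtype with hS'
    have hmem : ∀ t : L, t ∈ N → orderOf t = 2 → t ∈ (S : Subgroup L) := by
      intro t ht ht2
      have hp : IsPGroup 2 (zpowers t) := IsPGroup.of_card (n := 1) (by rw [Nat.card_zpowers, ht2, pow_one])
      exact (hp.inf_normalizer_sylow S).le ⟨mem_zpowers t, ht⟩ |>.2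
    have hlift : ∀ t : L, orderOf (t : X) = 2 → t ∈ N → (t : X) ∈ S' := fun t ht htN =>
      mem_map_of_mem L.subtype (hmem t htN (by rwa [Subgroup.orderOf_coe] at ht))
    refine ⟨normalizer (S' : Set X), ?_, ?_, ?_⟩
    · obtain ⟨t, htS, ht⟩ : ∃ t ∈ (S : Subgroup L), orderOf t = 2 := by
        obtain ⟨z, hz, hz2, -⟩ := exists_central_involution S (two_dvd_card hLna)
        exact ⟨z, hz, hz2⟩
      exact ⟨t, le_normalizer (mem_map_of_mem L.subtype htS),
        by rw [Subgroup.orderOf_coe]; exact ht⟩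
    · intro t htN ht g hg
      have hnorm : ∀ y : X, y ∈ L → y ∈ normalizer (S' : Set X) → ∀ hy : y ∈ L, (⟨y, hy⟩ : L) ∈ N := by
        intro y _ hy hyL
        rw [mem_normalizer_iff]
        intro w
        have h1 := mem_normalizer_iff.1 hy (w : X)
        constructor
        · intro hw
          obtain ⟨w', hw', e⟩ := h1.1 (mem_map_of_mem L.subtype hw)
          rwa [show (⟨y, hyL⟩ : L) * w * ⟨y, hyL⟩⁻¹ = w' from Subtype.ext e.symm]
        · intro hw
          obtain ⟨w', hw', e⟩ := h1.2 (mem_map_of_mem L.subtype hw :)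
          rwa [← (Subtype.ext e : w' = w)]
      have htL := hinvL t ht
      have hgt : orderOf (g * t * g⁻¹) = 2 := (Basic.orderOf_conj g t).trans ht
      have hgtL := hinvL _ hgt
      -- conjugate of `S` through `g * t * g⁻¹`
      obtain ⟨l, hl⟩ := MulAction.exists_smul_eq L S
        ((MulAut.conjNormal g : MulAut L) • S)
      have hS'g : ∀ w : X, w ∈ S' → g * w * g⁻¹ ∈ S'.map (MulAut.conj (l : X)).toMonoidHom := by
        rintro _ ⟨w, hw, rfl⟩
        have h1 : (MulAut.conjNormal g : MulAut L) w ∈ ((l • S : Sylow 2 L) : Subgroup L) := by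
          rw [hl]; exact ⟨w, hw, rfl⟩
        rw [Sylow.coe_subgroup_smul] at h1
        obtain ⟨w', hw', e⟩ := h1
        refine ⟨(w' : X), mem_map_of_mem L.subtype hw', ?_⟩
        have h2 := congrArg Subtype.val e
        simpa [MulAut.smul_def] using h2
      have hmap : S'.map (MulAut.conj g).toMonoidHom = S'.map (MulAut.conj (l : X)).toMonoidHom := by
        refine eq_of_le_of_card_ge ?_ ?_
        · rintro _ ⟨w, hw, rfl⟩
          exact hS'g w hw
        · exact (Subgroup.card_map_of_injective (f := (MulAut.conj (l : X)).toMonoidHom)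
            (MulAut.conj (l : X)).injective).trans
            (Subgroup.card_map_of_injective (f := (MulAut.conj g).toMonoidHom)
              (MulAut.conj g).injective).symm |>.le
      have htS : t ∈ S' := hlift ⟨t, htL⟩ ht (hnorm t htL htN htL)
      have hgtS : g * t * g⁻¹ ∈ S' := hlift ⟨_, hgtL⟩ hgt (hnorm _ hgtL hg hgtL)
      obtain ⟨w, hw, he⟩ : g * t * g⁻¹ ∈ S'.map (MulAut.conj (l : X)).toMonoidHom := hS'g t htS
      obtain ⟨w0, hw0, rfl⟩ := hw
      obtain ⟨v0, hv0, hv⟩ := hgtS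
      have hlN : l ∈ N := by
        refine StronglyEmbedded.mem_of_conj hS (le_normalizer hw0) ?_ (g := l) ?_
        · rw [← Subgroup.orderOf_coe]
          have h3 := (Basic.orderOf_conj (l : X) (w0 : X))
          rw [show (l : X) * (w0 : X) * (l : X)⁻¹ = g * t * g⁻¹ from he, hgt] at h3
          exact h3.symm
        · refine le_normalizer ?_
          rwa [show l * w0 * l⁻¹ = v0 from Subtype.ext (he.trans hv.symm)]
      rw [mem_normalizer_iff_map_conj_eq]
      refine hmap.trans ?_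
      refine mem_normalizer_iff_map_conj_eq.1 ?_
      rw [mem_normalizer_iff]
      intro w
      constructor
      · rintro ⟨w', hw', rfl⟩
        exact ⟨l * w' * l⁻¹, (mem_normalizer_iff.1 hlN w').1 hw', rfl⟩
      · rintro ⟨w', hw', e⟩
        refine ⟨l⁻¹ * w' * l, conjInv hlN hw', ?_⟩
        show (l : X)⁻¹ * (w' : X) * l = w
        rw [show (w' : X) = (l : X) * w * (l : X)⁻¹ from e]
        group
    · refine closed_of_involutions hX fun t ht => ?_
      have ht' : orderOf (t : X) = 2 := by rw [Subgroup.orderOf_coe]; exact ht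
      have hsn : (S'.subgroupOf (normalizer (S' : Set X))).Normal := normal_subgroupOf_of_le_normalizer le_rfl
      refine TimesPSLTwo.Affine.le_pCore_two hsn ((S.2.map _).comap_of_injective _
        (normalizer (S' : Set X)).subtype_injective) ?_
      show (t : X) ∈ S'
      refine hlift ⟨t, hinvL _ ht'⟩ ht' ?_
      rw [mem_normalizer_iff]
      intro w
      have h1 := mem_normalizer_iff.1 t.2 (w : X)
      constructor
      · intro hw
        obtain ⟨w', hw', e⟩ := h1.1 (mem_map_of_mem L.subtype hw)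
        rwa [show (⟨t, hinvL _ ht'⟩ : L) * w * ⟨t, hinvL _ ht'⟩⁻¹ = w' from Subtype.ext e.symm]
      · intro hw
        obtain ⟨w', hw', e⟩ := h1.2 (mem_map_of_mem L.subtype hw :)
        rwa [← (Subtype.ext e : w' = w)]
  · exfalso
    -- `D` lies in the socle
    have hquot : IsPGroup 2 (X ⧸ L) := by
      intro q
      obtain ⟨g, rfl⟩ := QuotientGroup.mk_surjective q
      obtain ⟨l, hl⟩ := isConj_iff.1 (h.one_class ⟨s0, hs0L⟩ ⟨g * s0 * g⁻¹, hLn.conj_mem s0 hs0L g⟩
        (by rw [Subgroup.orderOf_mk]; exact hs0)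
        (by rw [Subgroup.orderOf_mk]; exact (Basic.orderOf_conj g s0).trans hs0))
      have hl' : (l : X) * s0 * (l : X)⁻¹ = g * s0 * g⁻¹ := congrArg Subtype.val hl
      have hc : (l : X)⁻¹ * g ∈ centralizer ({s0} : Set X) := by
        rw [mem_centralizer_singleton_iff]
        calc (l : X)⁻¹ * g * s0 = (l : X)⁻¹ * (g * s0 * g⁻¹) * g := by group
          _ = (l : X)⁻¹ * ((l : X) * s0 * (l : X)⁻¹) * g := by rw [hl']
          _ = _ := by group
      obtain ⟨k, hk⟩ := hX s0 hs0 ⟨_, hc⟩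
      refine ⟨k, ?_⟩
      have h1 : ((l : X)⁻¹ * g : X) ^ 2 ^ k = 1 := congrArg Subtype.val hk
      rw [show (g : X ⧸ L) = ((l : X)⁻¹ * g : X) from QuotientGroup.eq.2 (by
        rw [← mul_assoc]; exact hLn.conj_mem' _ (inv_mem l.2) g |> fun h => by simpa [mul_assoc] using h),
        ← QuotientGroup.mk_pow, h1, QuotientGroup.mk_one]
    have hDL : D ≤ L := fun d hd => by
      obtain ⟨k, hk⟩ := hquot (d : X ⧸ L)
      rw [← QuotientGroup.mk_pow, QuotientGroup.eq_one_iff] at hk
      exact SECore.mem_of_pow_two_pow (hD.of_dvd_nat (Subgroup.orderOf_dvd_natCard D hd)) hk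
    refine false_of_lThreeFour h (D.subgroupOf L)
      (by rw [Nat.card_congr (subgroupOfEquivOfLe hDL).toEquiv]; exact hD) fun s t hs ht => ?_
    obtain ⟨d, hd, hde⟩ := htrans (s : X) (t : X) (by rw [Subgroup.orderOf_coe]; exact hs)
      (by rw [Subgroup.orderOf_coe]; exact ht)
    exact ⟨⟨d, hDL hd⟩, hd, Subtype.ext hde⟩
where
  conjInv {L : Type u} [Group L] {P : Subgroup L} {l w : L} (hl : l ∈ normalizer (P : Set L))
      (hw : w ∈ P) : l⁻¹ * w * l ∈ P := by
    simpa using (mem_normalizer_iff.1 (inv_mem hl) w).1 hw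

end Cfsg.Agent.CIT.SThreeTwo
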