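import Cfsg.Agent.S0516
import Cfsg.Agent.Lib.GW.MainFinal
import Cfsg.Agent.Lib.Involutions.CentralizerInvolution
import Cfsg.Agent.Lib.Transfer.NormalPComplement
import Cfsg.Agent.Lib.Characters.Burnside
import Cfsg.Agent.Lib.Classical.GL2
import Cfsg.Agent.Lib.Classical.SmallIso

/-!
# S3214: groups of 2-rank two

A simple group of 2-rank at most two whose involution centralisers have normal 2-complements has
dihedral Sylow 2-subgroups or those of `U₃(4)`; in the first case it is `L₂(q)`, `q` odd, or `A₇`.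
-/

set_option autoImplicit false
set_option linter.style.haveILetI false

namespace Cfsg.Agent.CIT.SThreeTwo

open Subgroup

universe u

variable {G : Type u} [Group G] [Finite G] [IsSimpleGroup G]

/-- A group with a normal 2-complement and no subgroup of index two has odd order. -/
theorem odd_of_hasNormalPComplement {K : Type*} [Group K] [Finite K]
    (hK : Cfsg.HasNormalPComplement 2 K) (h2 : ∀ H : Subgroup K, H.index ≠ 2) :
    Odd (Nat.card K) := by
  haveI : Fact (Nat.Prime 2) := ⟨Nat.prime_two⟩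
  obtain ⟨N, hN, hcop, k, hk⟩ := Cfsg.Agent.Transfer.NormalPComplement.hasNormalPComplement_iff_exists.1 hK
  rcases k with _ | k
  · rw [pow_zero, Subgroup.index_eq_one] at hk
    rw [hk, Subgroup.card_top] at hcop
    exact Nat.coprime_two_right.1 hcop
  exfalso
  obtain ⟨H, hH⟩ := Sylow.exists_subgroup_card_pow_prime 2 (n := k) (G := K ⧸ N)
    (by rw [show Nat.card (K ⧸ N) = _ from hk]; exact pow_dvd_pow 2 k.le_succ)
  refine h2 (H.comap (QuotientGroup.mk' N)) ?_
  rw [Subgroup.index_comap_of_surjective _ (QuotientGroup.mk'_surjective N)]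
  have h1 := H.card_mul_index
  rw [hH, show Nat.card (K ⧸ N) = _ from hk] at h1
  exact Nat.eq_of_mul_eq_mul_left (Nat.two_pow_pos k) (h1.trans (pow_succ 2 k))

/-- Quasi-dihedral and wreathed Sylow 2-subgroups do not occur. -/
theorem not_qd_or_wreathed (hG : ¬ IsMulCommutative G)
    (hI : ∀ t : G, orderOf t = 2 →
      Cfsg.HasNormalPComplement 2 ↥(centralizer ({t} : Set G)))
    (S : Sylow 2 G) (hS : Cfsg.IsQuasiDihedral (S : Subgroup G) ∨ Cfsg.IsWreathed (S : Subgroup G)) :
    False := by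
  haveI : Fact (Nat.Prime 2) := ⟨Nat.prime_two⟩
  have hidx : ∀ H : Subgroup G, H.index ≠ 2 := fun H hH => by
    haveI := Subgroup.normal_of_index_eq_two hH
    rcases (inferInstance : H.Normal).eq_bot_or_eq_top with h | h
    · rw [h, Subgroup.index_bot] at hH
      haveI : Fact (Nat.card G).Prime := ⟨hH ▸ Nat.prime_two⟩
      haveI := isCyclic_of_prime_card (α := G) rfl
      exact hG ⟨⟨fun a b => IsCyclic.commGroup.mul_comm a b⟩⟩
    · simp [h] at hH
  have hev : 2 ∣ Nat.card (S : Subgroup G) := by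
    rcases hS with ⟨n, -, h, -⟩ | ⟨n, -, h, -⟩ <;> rw [h] <;> exact dvd_pow_self 2 (by omega)
  obtain ⟨x, hx⟩ := exists_prime_orderOf_dvd_card' (G := G) 2
    (hev.trans (S : Subgroup G).card_subgroup_dvd_card)
  have key : ∀ R : Sylow 2 ↥(centralizer ({x} : Set G)),
      ¬ Cfsg.Agent.Involutions.CentralizerInvolution.Concl _ R := by
    rintro R ⟨⟨K, -, -, hK2, hKP⟩, -⟩
    have hodd := odd_of_hasNormalPComplement (Cfsg.Agent.Transfer.NormalPComplement.HasNormalPComplement.subgroup (hI x hx) K) hK2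
    obtain ⟨m, -, ⟨e⟩⟩ := hKP default
    refine Nat.not_even_iff_odd.2 (hodd.of_dvd_nat (Subgroup.card_subgroup_dvd_card
      ((default : Sylow 2 K) : Subgroup K))) ?_
    haveI : NeZero (2 ^ m) := ⟨by positivity⟩
    rw [Nat.card_congr e.toEquiv, Nat.card_eq_fintype_card, QuaternionGroup.card]
    exact ⟨2 * 2 ^ m, by ring⟩
  rcases hS with h | h
  · obtain ⟨D⟩ := Cfsg.Agent.Involutions.QuasiDihedral.exists_gens h
    obtain ⟨R, -, hR⟩ := Cfsg.Agent.Involutions.CentralizerInvolution.qd_case D hidx x hx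
    exact key R hR
  · obtain ⟨D⟩ := Cfsg.Agent.Involutions.Wreathed.exists_gens h
    obtain ⟨R, -, hR⟩ := Cfsg.Agent.Involutions.CentralizerInvolution.w_case D hidx x hx
    exact key R hR

/-- A nonabelian simple `PSL₂(F)` has more than three elements in its field. -/
theorem three_lt_card (hG : ¬ IsMulCommutative G) {F : Type} [Field F] [Fintype F]
    (hF : Odd (Fintype.card F)) (e : G ≃* Matrix.ProjectiveSpecialLinearGroup (Fin 2) F) :
    3 < Fintype.card F := by
  by_contra hlt
  have h1 : 1 < Fintype.card F := Fintype.one_lt_card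
  have h3 : Fintype.card F = 3 := by rcases hF with ⟨k, hk⟩; omega
  have h := Cfsg.Agent.Classical.SmallIso.natCard_pslTwo F
  rw [Cfsg.Agent.Classical.GL2.natCard_SL_two, h3, ← Nat.card_congr e.toEquiv] at h
  have h12 : Nat.card G = 2 ^ 2 * 3 ^ 1 := by norm_num at h ⊢; omega
  have hsol := Cfsg.Agent.Characters.burnside_pa_qb Nat.prime_two Nat.prime_three h12
  haveI := hsol
  exact hG ⟨⟨fun a b => IsSimpleGroup.comm_iff_isSolvable.2 ‹_› a b⟩⟩

/-- Rank at most two, given that the Sylow subgroups of `U₃(4)` do not occur. -/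
theorem conclusion_of_rankTwo (hG : ¬ IsMulCommutative G)
    (hI : ∀ t : G, orderOf t = 2 →
      Cfsg.HasNormalPComplement 2 ↥(centralizer ({t} : Set G)))
    (h2 : Cfsg.PRankLE 2 2 G)
    (hU : ∀ (S : Sylow 2 G) (P : Sylow 2 (Cfsg.PSU 3 (GaloisField 2 4) 4)),
      ((S : Subgroup G) ≃* (P : Subgroup (Cfsg.PSU 3 (GaloisField 2 4) 4))) → False) :
    (∃ (F : Type) (_ : Field F) (_ : Fintype F), 3 < Fintype.card F ∧
        Nonempty (G ≃* Matrix.ProjectiveSpecialLinearGroup (Fin 2) F)) ∨
      Nonempty (G ≃* ↥(alternatingGroup (Fin 7))) := by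
  classical
  haveI := Fintype.ofFinite (GaloisField 2 4)
  have h16 : Fintype.card (GaloisField 2 4) = 16 := by
    rw [← Nat.card_eq_fintype_card, GaloisField.card 2 4 (by norm_num)]; norm_num
  let S : Sylow 2 G := default
  let P : Sylow 2 (Cfsg.PSU 3 (GaloisField 2 4) 4) := default
  rcases Cfsg.Agent.S0516.result hG h2 S h16 P with ⟨n, hn, h⟩ | h | h | ⟨⟨e⟩⟩
  · rcases Cfsg.Agent.GW.simpleGW G S n hn h with ⟨F, i1, i2, hF, ⟨e⟩⟩ | h
    · exact Or.inl ⟨F, i1, i2, three_lt_card hG hF e, ⟨e⟩⟩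
    · exact Or.inr h
  · exact (not_qd_or_wreathed hG hI S (Or.inl h)).elim
  · exact (not_qd_or_wreathed hG hI S (Or.inr h)).elim
  · exact (hU S P e).elim

end Cfsg.Agent.CIT.SThreeTwo
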