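import Cfsg.Agent.Lib.CIT.Base
import Cfsg.Agent.Lib.SECore.NoBadBasic
import Cfsg.Agent.Lib.Involutions.TwoGroups
import Cfsg.Agent.Lib.Cores.Nilpotent
import Cfsg.Agent.Lib.CentFour.TwoGroup
import Cfsg.Agent.S0205
import Cfsg.Agent.S0217
import Cfsg.Prelude.Def_Transfer

/-!
# S3214, rank at least three: the signalizers

If the centraliser of every involution has a normal 2-complement, the odd elements of `C(t)` form
its odd core `theta t`; elementary subgroups of order at least eight have odd completions `WB`, equal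
for two subgroups in one Sylow 2-subgroup or through one involution.
-/

set_option autoImplicit false
set_option linter.style.haveILetI false
set_option linter.unusedSectionVars false

namespace Cfsg.Agent.CIT.SThreeTwo

open Subgroup Cfsg.Agent.Involutions

universe u

variable {G : Type u} [Group G]

/-- The hypothesis of S3214. -/
def Complement (G : Type u) [Group G] : Prop :=
  ∀ t : G, orderOf t = 2 → Cfsg.HasNormalPComplement 2 ↥(centralizer ({t} : Set G))

/-- An elementary abelian 2-subgroup of order at least eight. -/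
structure Elem (B : Subgroup G) : Prop where
  comm : ∀ a ∈ B, ∀ b ∈ B, a * b = b * a
  sq : ∀ a ∈ B, a * a = 1
  rank : 8 ≤ Nat.card B

/-- The subgroup generated by the odd elements commuting with `t`. -/
def theta (t : G) : Subgroup G := closure {x | Commute x t ∧ Odd (orderOf x)}

/-- The completion of the signalizers over `B`. -/
def WB (B : Subgroup G) : Subgroup G := ⨆ b : {b : G // b ∈ B ∧ b ≠ 1}, theta (b : G)

theorem Elem.ord {B : Subgroup G} (hB : Elem B) {b : G} (hb : b ∈ B) (h1 : b ≠ 1) : orderOf b = 2 :=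
  Basic.orderOf_two_iff.2 ⟨hB.sq b hb, h1⟩

theorem Elem.isPGroup {B : Subgroup G} (hB : Elem B) : IsPGroup 2 B :=
  fun b => ⟨1, Subtype.ext (by simpa [pow_two] using hB.sq _ b.2)⟩

theorem Elem.map {B : Subgroup G} (hB : Elem B) (g : G) :
    Elem (B.map (MulAut.conj g).toMonoidHom) := by
  refine ⟨?_, ?_, ?_⟩
  · rintro _ ⟨a, ha, rfl⟩ _ ⟨b, hb, rfl⟩
    rw [← map_mul, ← map_mul, hB.comm a ha b hb]
  · rintro _ ⟨a, ha, rfl⟩
    rw [← map_mul, hB.sq a ha, map_one]
  · rw [← Nat.card_congr (B.equivMapOfInjective _ (MulAut.conj g).injective).toEquiv]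
    exact hB.rank

/-- Adjoining a commuting involution. -/
theorem closure_elem {s : Set G} (hc : ∀ a ∈ s, ∀ b ∈ s, a * b = b * a) (h2 : ∀ a ∈ s, a * a = 1) :
    (∀ a ∈ closure s, ∀ b ∈ closure s, a * b = b * a) ∧ ∀ a ∈ closure s, a * a = 1 := by
  haveI := Subgroup.isMulCommutative_closure hc
  have hcomm : ∀ a ∈ closure s, ∀ b ∈ closure s, a * b = b * a := fun a ha b hb =>
    congrArg Subtype.val (mul_comm' (⟨a, ha⟩ : closure s) ⟨b, hb⟩)
  refine ⟨hcomm, fun a ha => ?_⟩
  induction ha using Subgroup.closure_induction with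
  | mem x hx => exact h2 x hx
  | one => exact one_mul 1
  | mul a b ha hb iha ihb =>
    rw [(show Commute b a from hcomm b hb a ha).mul_mul_mul_comm, iha, ihb, one_mul]
  | inv a _ iha => rw [← mul_inv_rev, iha, inv_one]

variable [Finite G]

theorem Elem.adjoin {B : Subgroup G} (hB : Elem B) {t : G} (ht : t * t = 1)
    (hc : ∀ b ∈ B, b * t = t * b) : Elem (closure ((B : Set G) ∪ {t})) := by
  obtain ⟨h1, h2⟩ := closure_elem (s := (B : Set G) ∪ {t})
    (by
      rintro a (ha | rfl) b (hb | rfl)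
      exacts [hB.comm a ha b hb, hc a ha, (hc b hb).symm, rfl])
    (by rintro a (ha | rfl); exacts [hB.sq a ha, ht])
  exact ⟨h1, h2, hB.rank.trans (Subgroup.card_le_of_le fun x hx => subset_closure (Or.inl hx))⟩

variable (hI : Complement G)
include hI

/-- The odd elements of the centraliser of an involution form a normal complement. -/
theorem complement_spec {t : G} (ht : orderOf t = 2) :
    ∃ N : Subgroup (centralizer ({t} : Set G)), N.Normal ∧ Odd (Nat.card N) ∧
      (∀ T : Sylow 2 (centralizer ({t} : Set G)), N ⊔ (T : Subgroup (centralizer ({t} : Set G))) = ⊤) ∧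
      (∀ x : centralizer ({t} : Set G), x ∈ N ↔ Odd (orderOf x)) ∧
      N.map (centralizer ({t} : Set G)).subtype = theta t := by
  haveI : Fact (Nat.Prime 2) := ⟨Nat.prime_two⟩
  obtain ⟨P, N, hN, hcomp⟩ := hI t ht
  haveI := hN
  have hodd : Odd (Nat.card N) := by
    rw [← hcomp.index_eq_card, Nat.odd_iff]
    exact Nat.two_dvd_ne_zero.1 P.not_dvd_index
  obtain ⟨k, hk⟩ := IsPGroup.iff_card.1 P.2
  have hquot : IsPGroup 2 (centralizer ({t} : Set G) ⧸ N) := by
    refine IsPGroup.of_card (n := k) ?_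
    rw [← Subgroup.index_eq_card, hcomp.symm.index_eq_card, hk]
  have hsup : ∀ T : Sylow 2 (centralizer ({t} : Set G)),
      N ⊔ (T : Subgroup (centralizer ({t} : Set G))) = ⊤ := fun T => by
    have hcard : Nat.card (T : Subgroup (centralizer ({t} : Set G))) =
        Nat.card (P : Subgroup (centralizer ({t} : Set G))) :=
      T.card_eq_multiplicity.trans P.card_eq_multiplicity.symm
    refine (isComplement'_of_coprime ?_ ?_).sup_eq_top
    · rw [hcard]; exact hcomp.card_mul_card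
    · rw [hcard, hk]; exact (Nat.coprime_two_right.2 hodd).pow_right k
  have hiff : ∀ x : centralizer ({t} : Set G), x ∈ N ↔ Odd (orderOf x) := by
    intro x
    refine ⟨fun hx => hodd.of_dvd_nat (Subgroup.orderOf_dvd_natCard N hx), fun hx => ?_⟩
    obtain ⟨k, hk⟩ := hquot (x : centralizer ({t} : Set G) ⧸ N)
    rw [← QuotientGroup.mk_pow, QuotientGroup.eq_one_iff] at hk
    exact SECore.mem_of_pow_two_pow hx hk
  refine ⟨N, hN, hodd, hsup, hiff, le_antisymm ?_ ?_⟩
  · rintro _ ⟨x, hx, rfl⟩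
    exact subset_closure ⟨mem_centralizer_singleton_iff.1 x.2,
      by rw [Subgroup.coe_subtype, Subgroup.orderOf_coe]; exact (hiff x).1 hx⟩
  · rw [theta, closure_le]
    rintro x ⟨hxt, hx⟩
    exact ⟨⟨x, mem_centralizer_singleton_iff.2 hxt⟩, (hiff _).2 (by rwa [Subgroup.orderOf_mk]), rfl⟩

theorem mem_theta {t : G} (ht : orderOf t = 2) {x : G} :
    x ∈ theta t ↔ Commute x t ∧ Odd (orderOf x) := by
  refine ⟨fun hx => ?_, fun hx => subset_closure hx⟩
  obtain ⟨N, -, -, -, hiff, he⟩ := complement_spec hI ht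
  rw [← he] at hx
  obtain ⟨y, hy, rfl⟩ := hx
  exact ⟨mem_centralizer_singleton_iff.1 y.2,
    by rw [Subgroup.coe_subtype, Subgroup.orderOf_coe]; exact (hiff y).1 hy⟩

theorem odd_theta {t : G} (ht : orderOf t = 2) : Odd (Nat.card (theta t)) := by
  obtain ⟨N, -, hodd, -, -, he⟩ := complement_spec hI ht
  rw [← he, Subgroup.card_subtype]
  exact hodd

theorem conj_mem_theta {t : G} (ht : orderOf t = 2) {x : G} (g : G) (hx : x ∈ theta t) :
    g * x * g⁻¹ ∈ theta (g * t * g⁻¹) :=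
  (mem_theta hI ((Basic.orderOf_conj g t).trans ht)).2
    ⟨((mem_theta hI ht).1 hx).1.map (MulAut.conj g).toMonoidHom,
      (Basic.orderOf_conj g x).symm ▸ ((mem_theta hI ht).1 hx).2⟩

theorem theta_facts {B : Subgroup G} (hB : Elem B) :
    ¬ 2 ∣ Nat.card (WB B) ∧ ∀ b ∈ B, b ≠ 1 → WB B ⊓ centralizer ({b} : Set G) = theta b := by
  haveI : Fact (Nat.Prime 2) := ⟨Nat.prime_two⟩
  refine S0217.result B hB.comm (fun a ha => by rw [pow_two]; exact hB.sq a ha) hB.rank theta
    (fun a ha ha1 x hx => mem_centralizer_singleton_iff.2 ((mem_theta hI (hB.ord ha ha1)).1 hx).1)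
    (fun a ha ha1 h2 => ?_) (fun a ha ha1 b hb x hx => ?_) (fun a ha ha1 => S0205.result (odd_theta hI (hB.ord ha ha1)))
    (fun a ha ha1 b hb hb1 x hx => ?_)
  · exact Nat.not_even_iff_odd.2 (odd_theta hI (hB.ord ha ha1)) (even_iff_two_dvd.2 h2)
  · have := conj_mem_theta hI (hB.ord ha ha1) b hx
    rwa [show b * a * b⁻¹ = a by rw [hB.comm b hb a ha, mul_inv_cancel_right]] at this
  · exact (mem_theta hI (hB.ord hb hb1)).2
      ⟨mem_centralizer_singleton_iff.1 hx.2, ((mem_theta hI (hB.ord ha ha1)).1 hx.1).2⟩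

theorem odd_WB {B : Subgroup G} (hB : Elem B) : Odd (Nat.card (WB B)) :=
  Nat.not_even_iff_odd.1 fun h => (theta_facts hI hB).1 (even_iff_two_dvd.1 h)

theorem theta_le_WB {B : Subgroup G} {b : G} (hb : b ∈ B) (h1 : b ≠ 1) : theta b ≤ WB B :=
  le_iSup (fun b : {b : G // b ∈ B ∧ b ≠ 1} => theta (b : G)) ⟨b, hb, h1⟩

theorem map_theta {t : G} (ht : orderOf t = 2) (g : G) :
    (theta t).map (MulAut.conj g).toMonoidHom = theta (g * t * g⁻¹) := by
  refine le_antisymm ?_ fun x hx => ⟨g⁻¹ * x * g, ?_, ?_⟩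
  · rintro _ ⟨x, hx, rfl⟩
    exact conj_mem_theta hI ht g hx
  · have := conj_mem_theta hI ((Basic.orderOf_conj g t).trans ht) g⁻¹ hx
    simpa [mul_assoc] using this
  · simp [mul_assoc]

theorem map_WB {B : Subgroup G} (hB : Elem B) (g : G) :
    (WB B).map (MulAut.conj g).toMonoidHom = WB (B.map (MulAut.conj g).toMonoidHom) := by
  rw [WB, Subgroup.map_iSup]
  refine le_antisymm (iSup_le fun b => ?_) (iSup_le ?_)
  · rw [map_theta hI (hB.ord b.2.1 b.2.2)]
    exact theta_le_WB hI ⟨b, b.2.1, rfl⟩ (conj_eq_one_iff.not.2 b.2.2)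
  · rintro ⟨_, ⟨b, hb, rfl⟩, h1⟩
    have hb1 : b ≠ 1 := fun e => h1 (by rw [e, map_one])
    refine le_iSup_of_le ⟨b, hb, hb1⟩ ?_
    rw [map_theta hI (hB.ord hb hb1)]
    rfl

theorem mem_normalizer_WB {B : Subgroup G} (hB : Elem B) {b : G} (hb : b ∈ B) :
    b ∈ normalizer (WB B : Set G) := by
  rw [mem_normalizer_iff_map_conj_eq]
  refine (map_WB hI hB b).trans ?_
  refine congrArg WB (le_antisymm ?_ fun x hx => ⟨x, hx, ?_⟩)
  · rintro _ ⟨x, hx, rfl⟩
    show b * x * b⁻¹ ∈ B
    exact mul_mem (mul_mem hb hx) (inv_mem hb)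
  · show b * x * b⁻¹ = x
    rw [hB.comm b hb x hx, mul_inv_cancel_right]

/-- The completion is generated by the signalizers of any four group inside. -/
theorem WB_eq {B : Subgroup G} (hB : Elem B) {a b : G} (ha : a ∈ B) (hb : b ∈ B) (ha1 : a ≠ 1)
    (hb1 : b ≠ 1) (hne : a ≠ b) : WB B = theta a ⊔ theta b ⊔ theta (a * b) := by
  have hab1 : a * b ≠ 1 := fun e => hne (by rw [eq_inv_of_mul_eq_one_left e, Basic.inv_eq (hB.ord hb hb1)])
  refine le_antisymm ?_ (sup_le (sup_le (theta_le_WB hI ha ha1) (theta_le_WB hI hb hb1))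
    (theta_le_WB hI (mul_mem ha hb) hab1))
  refine SECore.le_of_four (odd_WB hI hB) (hB.sq a ha) (hB.sq b hb) (hB.comm a ha b hb)
    (mem_normalizer_WB hI hB ha) (mem_normalizer_WB hI hB hb) fun y hy hc => ?_
  have key : ∀ c ∈ B, c ≠ 1 → Commute y c → y ∈ theta c := fun c hc hc1 hyc =>
    ((theta_facts hI hB).2 c hc hc1) ▸ ⟨hy, mem_centralizer_singleton_iff.2 hyc.eq⟩
  rcases hc with h | h | h
  · exact mem_sup_left (mem_sup_left (key a ha ha1 h))
  · exact mem_sup_left (mem_sup_right (key b hb hb1 h))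
  · exact mem_sup_right (key _ (mul_mem ha hb) hab1 h)

theorem WB_eq_of_pair {B C : Subgroup G} (hB : Elem B) (hC : Elem C) {a b : G} (ha : a ∈ B)
    (hb : b ∈ B) (ha' : a ∈ C) (hb' : b ∈ C) (ha1 : a ≠ 1) (hb1 : b ≠ 1) (hne : a ≠ b) :
    WB B = WB C := by
  rw [WB_eq hI hB ha hb ha1 hb1 hne, WB_eq hI hC ha' hb' ha1 hb1 hne]

omit hI in
/-- A normal four group `{1, z, e, z e}` with `z` central. -/
theorem exists_four {S : Sylow 2 G} {B : Subgroup G} (hB : Elem B) (hBS : B ≤ (S : Subgroup G)) :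
    ∃ z e : G, z ∈ (S : Subgroup G) ∧ e ∈ (S : Subgroup G) ∧ orderOf z = 2 ∧ orderOf e = 2 ∧ z ≠ e ∧
      (∀ s ∈ (S : Subgroup G), z * s = s * z) ∧
      ∀ s ∈ (S : Subgroup G), s * e * s⁻¹ = e ∨ s * e * s⁻¹ = e * z := by
  haveI : Fact (Nat.Prime 2) := ⟨Nat.prime_two⟩
  obtain ⟨E, hE, hK⟩ := Cfsg.Agent.Involutions.TwoGroups.exists_normal_four_group
    (S.2 : IsPGroup 2 (S : Subgroup G)) (B.subgroupOf S)
    (fun a ha b hb => Subtype.ext (hB.comm _ ha _ hb)) (fun a ha => Subtype.ext (hB.sq _ ha))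
    (by rw [Nat.card_congr (subgroupOfEquivOfLe hBS).toEquiv]; exact hB.rank)
  haveI := hE
  haveI : Group.IsNilpotent (S : Subgroup G) := S.2.isNilpotent
  have hE1 : E ≠ ⊥ := fun e => by
    have := hK.card_four
    rw [e, Subgroup.card_bot] at this
    omega
  obtain ⟨⟨z, hzE, hzc⟩, hz1⟩ :=
    Subgroup.ne_bot_iff_exists_ne_one.1 (Cores.inf_center_ne_bot (N := E) hE1)
  obtain ⟨e, heE, he1, hez⟩ : ∃ e ∈ E, e ≠ 1 ∧ e ≠ z := by
    by_contra! h
    have hle : Nat.card E ≤ 2 := by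
      refine le_trans ?_
        (Set.ncard_pair (show (1 : (S : Subgroup G)) ≠ z from fun e => hz1 (Subtype.ext e.symm))).le
      rw [← Nat.card_coe_set_eq]
      refine Nat.card_mono (Set.toFinite _) fun x hx => ?_
      by_cases hx1 : x = 1
      · exact Or.inl hx1
      · exact Or.inr (h x hx hx1)
    rw [hK.card_four] at hle
    omega
  have hsq : ∀ x ∈ E, x * x = 1 := fun x hx => by
    have := Monoid.pow_exponent_eq_one (⟨x, hx⟩ : E)
    rw [hK.exponent_two, pow_two] at this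
    exact congrArg Subtype.val this
  have hz1' : z ≠ 1 := fun e => hz1 (Subtype.ext e)
  refine ⟨(z : G), (e : G), z.2, e.2, ?_, ?_, fun h => hez (Subtype.ext h.symm), ?_, ?_⟩
  · rw [Subgroup.orderOf_coe, Basic.orderOf_two_iff]; exact ⟨hsq z hzE, hz1'⟩
  · rw [Subgroup.orderOf_coe, Basic.orderOf_two_iff]; exact ⟨hsq e heE, he1⟩
  · exact fun s hs => (congrArg Subtype.val (mem_center_iff.1 hzc ⟨s, hs⟩)).symm
  · intro s hs
    set c : (S : Subgroup G) := ⟨s, hs⟩ * e * ⟨s, hs⟩⁻¹ with hc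
    have hcE : c ∈ E := hE.conj_mem e heE _
    have hzz : z * z = 1 := hsq z hzE
    have h1 : c ≠ 1 := fun h => he1 (conj_eq_one_iff.1 h)
    have h2 : c ≠ z := fun h => hez (by
      have hcomm := mem_center_iff.1 hzc ⟨s, hs⟩
      calc e = (⟨s, hs⟩ : (S : Subgroup G))⁻¹ * c * ⟨s, hs⟩ := by rw [hc]; group
        _ = (⟨s, hs⟩ : (S : Subgroup G))⁻¹ * z * ⟨s, hs⟩ := by rw [h]
        _ = z := by rw [mul_assoc, ← hcomm, inv_mul_cancel_left])
    have hall : c = 1 ∨ c = z ∨ c = e ∨ c = e * z := by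
      classical
      by_contra! h
      have hn1 : e * z ≠ 1 := fun h' => hez (by rw [eq_inv_of_mul_eq_one_left h', inv_eq_of_mul_eq_one_left hzz])
      have hn2 : e * z ≠ e := fun h' => hz1' (mul_eq_left.1 h')
      have hn3 : e * z ≠ z := fun h' => he1 (mul_eq_right.1 h')
      have h5 : ({1, z, e, e * z, c} : Finset (S : Subgroup G)).card = 5 := by
        simp [hz1'.symm, he1.symm, hn1.symm, hn2.symm, hn3.symm, hez.symm, h.1.symm, h.2.1.symm,
          h.2.2.1.symm, h.2.2.2.symm]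
      have hle : ({1, z, e, e * z, c} : Finset (S : Subgroup G)).card ≤ Nat.card E := by
        rw [← Set.ncard_coe_finset]
        refine le_trans ?_ (Nat.card_coe_set_eq (E : Set (S : Subgroup G))).ge
        refine Set.ncard_le_ncard ?_ (Set.toFinite _)
        simp only [Finset.coe_insert, Finset.coe_singleton, Set.insert_subset_iff,
          Set.singleton_subset_iff, SetLike.mem_coe]
        exact ⟨one_mem E, hzE, heE, mul_mem heE hzE, hcE⟩
      rw [h5, hK.card_four] at hle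
      omega
    rcases hall with h | h | h | h
    · exact absurd h h1
    · exact absurd h h2
    · exact Or.inl (congrArg Subtype.val h)
    · exact Or.inr (congrArg Subtype.val h)

omit hI in
/-- A large elementary subgroup containing the four group `⟨z, e⟩` and sharing a four group with `B`. -/
theorem exists_link {S : Sylow 2 G} {z e : G} (hz : orderOf z = 2) (he : orderOf e = 2) (hne : z ≠ e)
    (hzS : z ∈ (S : Subgroup G)) (heS : e ∈ (S : Subgroup G))
    (hzc : ∀ s ∈ (S : Subgroup G), z * s = s * z)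
    (hsw : ∀ s ∈ (S : Subgroup G), s * e * s⁻¹ = e ∨ s * e * s⁻¹ = e * z)
    {B : Subgroup G} (hB : Elem B) (hBS : B ≤ (S : Subgroup G)) :
    ∃ A : Subgroup G, Elem A ∧ A ≤ (S : Subgroup G) ∧ z ∈ A ∧ e ∈ A ∧ (∀ a ∈ A, a * e = e * a) ∧
      ∃ a b : G, a ∈ B ∧ b ∈ B ∧ a ∈ A ∧ b ∈ A ∧ a ≠ 1 ∧ b ≠ 1 ∧ a ≠ b := by
  classical
  set C := B ⊓ centralizer ({e} : Set G) with hC
  have hfix : ∀ x y : G, x ∈ (S : Subgroup G) → y ∈ (S : Subgroup G) → x * e * x⁻¹ = e * z →
      y * e * y⁻¹ = e * z → (x * y) * e * (x * y)⁻¹ = e := by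
    intro x y hx hy hxe hye
    calc x * y * e * (x * y)⁻¹ = x * (y * e * y⁻¹) * x⁻¹ := by group
      _ = (x * e * x⁻¹) * (x * z * x⁻¹) := by rw [hye]; group
      _ = e * z * z := by rw [hxe, ← hzc x hx, mul_inv_cancel_right]
      _ = e := by rw [mul_assoc, Basic.inv_sq_one hz, mul_one]
  have hmemC : ∀ x ∈ B, x * e * x⁻¹ = e → x ∈ C := fun x hx h =>
    ⟨hx, mem_centralizer_singleton_iff.2 (mul_inv_eq_iff_eq_mul.1 h)⟩
  -- `C` has index at most two in `B`
  have hC4 : 4 ≤ Nat.card C := by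
    by_cases hall : ∀ x ∈ B, x * e * x⁻¹ = e
    · have : B ≤ C := fun x hx => hmemC x hx (hall x hx)
      have := (Subgroup.card_le_of_le this)
      have := hB.rank
      omega
    · push Not at hall
      obtain ⟨x0, hx0, hx0e⟩ := hall
      have hx0e' : x0 * e * x0⁻¹ = e * z := (hsw x0 (hBS hx0)).resolve_left hx0e
      have hle : Nat.card B ≤ Nat.card C + Nat.card C := by
        rw [← Nat.card_sum]
        refine Nat.card_le_card_of_injective (fun x : B =>
          if h : (x : G) * e * (x : G)⁻¹ = e then Sum.inl (⟨x, hmemC x x.2 h⟩ : C)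
          else Sum.inr (⟨x0 * x, hmemC _ (mul_mem hx0 x.2) (hfix _ _ (hBS hx0) (hBS x.2) hx0e'
            ((hsw x (hBS x.2)).resolve_left h))⟩ : C)) ?_
        intro x y hxy
        simp only at hxy
        by_cases hx : (x : G) * e * (x : G)⁻¹ = e <;> by_cases hy : (y : G) * e * (y : G)⁻¹ = e
        · rw [dif_pos hx, dif_pos hy] at hxy
          have h' := Sum.inl_injective hxy
          simp only [Subtype.mk.injEq] at h'
          exact Subtype.ext h' 
        · rw [dif_pos hx, dif_neg hy] at hxy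
          exact absurd hxy (by simp)
        · rw [dif_neg hx, dif_pos hy] at hxy
          exact absurd hxy (by simp)
        · rw [dif_neg hx, dif_neg hy] at hxy
          have h' := Sum.inr_injective hxy
          simp only [Subtype.mk.injEq] at h'
          exact Subtype.ext (mul_left_cancel h')
      have := hB.rank
      omega
  have hcomm : ∀ c ∈ C, c * e = e * c := fun c hc => mem_centralizer_singleton_iff.1 hc.2
  obtain ⟨hA1, hA2⟩ := closure_elem (s := (C : Set G) ∪ {z, e})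
    (by
      rintro a (ha | rfl | rfl) b (hb | rfl | rfl)
      exacts [hB.comm a ha.1 b hb.1, (hzc a (hBS ha.1)).symm, hcomm a ha, hzc b (hBS hb.1), rfl,
        hzc b heS, (hcomm b hb).symm, (hzc a heS).symm, rfl])
    (by
      rintro a (ha | rfl | rfl)
      exacts [hB.sq a ha.1, Basic.inv_sq_one hz, Basic.inv_sq_one he])
  set A := closure ((C : Set G) ∪ {z, e}) with hA
  have hCA : C ≤ A := fun x hx => subset_closure (Or.inl hx)
  have hzA : z ∈ A := subset_closure (Or.inr (Or.inl rfl))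
  have heA : e ∈ A := subset_closure (Or.inr (Or.inr rfl))
  have hAS : A ≤ (S : Subgroup G) := (closure_le _).2 (by
    rintro a (ha | rfl | rfl); exacts [hBS ha.1, hzS, heS])
  haveI : Fact (Nat.Prime 2) := ⟨Nat.prime_two⟩
  have hA8 : 8 ≤ Nat.card A := by
    by_contra hlt
    push Not at hlt
    obtain ⟨k, hk⟩ := IsPGroup.iff_card.1 (S.2.to_le hAS)
    have h4 : 4 ≤ Nat.card A := hC4.trans (Subgroup.card_le_of_le hCA)
    have hA4 : Nat.card A = 4 := by
      rcases k with _ | _ | _ | k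
      · rw [hk] at h4; norm_num at h4
      · rw [hk] at h4; norm_num at h4
      · rw [hk]; norm_num
      · rw [hk, pow_succ, pow_succ, pow_succ] at hlt
        have : 0 < 2 ^ k := by positivity
        omega
    have hCAeq : C = A := eq_of_le_of_card_ge hCA (by omega)
    have heB : e ∈ B := (hCAeq.ge heA).1
    have : B ≤ C := fun x hx => ⟨hx, mem_centralizer_singleton_iff.2 (hB.comm x hx e heB)⟩
    have := Subgroup.card_le_of_le (this.trans hCA)
    have := hB.rank
    omega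
  refine ⟨A, ⟨hA1, hA2, hA8⟩, hAS, hzA, heA, fun a ha => hA1 a ha e heA, ?_⟩
  obtain ⟨a, b, ha1, hb1, hab⟩ : ∃ a b : C, a ≠ 1 ∧ b ≠ 1 ∧ a ≠ b := by
    by_contra! h
    haveI : Nontrivial C := Finite.one_lt_card_iff_nontrivial.1 (by omega)
    obtain ⟨a, ha⟩ := exists_ne (1 : C)
    have : Nat.card C ≤ 2 := by
      rw [← Set.ncard_pair ha, ← Nat.card_univ (α := C), Nat.card_coe_set_eq]
      refine Set.ncard_le_ncard (fun x _ => ?_) (Set.toFinite _)
      by_cases hx : x = 1
      · exact Or.inr hx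
      · exact Or.inl (h a x ha hx).symm
    omega
  exact ⟨a, b, a.2.1, b.2.1, hCA a.2, hCA b.2, fun e => ha1 (Subtype.ext e), fun e => hb1 (Subtype.ext e),
    fun e => hab (Subtype.ext e)⟩

/-- Large elementary subgroups of one Sylow subgroup have one completion. -/
theorem WB_eq_of_le_sylow {S : Sylow 2 G} {B C : Subgroup G} (hB : Elem B) (hC : Elem C)
    (hBS : B ≤ (S : Subgroup G)) (hCS : C ≤ (S : Subgroup G)) : WB B = WB C := by
  obtain ⟨z, e, hzS, heS, hz, he, hne, hzc, hsw⟩ := exists_four hB hBS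
  obtain ⟨A, hA, -, hzA, heA, -, a, b, ha, hb, ha', hb', ha1, hb1, hab⟩ :=
    exists_link hz he hne hzS heS hzc hsw hB hBS
  obtain ⟨A', hA', -, hzA', heA', -, c, d, hc, hd, hc', hd', hc1, hd1, hcd⟩ :=
    exists_link hz he hne hzS heS hzc hsw hC hCS
  rw [WB_eq_of_pair hI hB hA ha hb ha' hb' ha1 hb1 hab,
    WB_eq_of_pair hI hC hA' hc hd hc' hd' hc1 hd1 hcd]
  exact WB_eq_of_pair hI hA hA' hzA heA hzA' heA' (Basic.ne_one hz) (Basic.ne_one he) hne

/-- Large elementary subgroups through one involution have one completion. -/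
theorem WB_eq_of_mem {B C : Subgroup G} (hB : Elem B) (hC : Elem C) {t : G} (htB : t ∈ B)
    (htC : t ∈ C) (ht1 : t ≠ 1) : WB B = WB C := by
  haveI : Fact (Nat.Prime 2) := ⟨Nat.prime_two⟩
  have ht := hB.ord htB ht1
  set C0 := centralizer ({t} : Set G) with hC0
  obtain ⟨N, hN, -, hsupT, -, he⟩ := complement_spec hI ht
  haveI : N.Normal := hN
  have hle : ∀ {D : Subgroup G}, Elem D → t ∈ D → D ≤ C0 := fun hD htD x hx =>
    mem_centralizer_singleton_iff.2 (hD.comm x hx t htD)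
  have hp : ∀ {D : Subgroup G}, Elem D → IsPGroup 2 (D.subgroupOf C0) := fun hD =>
    hD.isPGroup.comap_subtype
  obtain ⟨T, hT⟩ := (hp hB).exists_le_sylow
  obtain ⟨T', hT'⟩ := (hp hC).exists_le_sylow
  obtain ⟨c, hc⟩ := MulAction.exists_smul_eq C0 T T'
  have hsup : N ⊔ (T : Subgroup C0) = ⊤ := hsupT T
  obtain ⟨o, ho, s, hs, rfl⟩ := (mem_sup_of_normal_left).1 (hsup ▸ mem_top c : c ∈ N ⊔ (T : Subgroup C0))
  have hoW : (o : G) ∈ WB C := theta_le_WB hI htC ht1 (he ▸ mem_map_of_mem _ ho)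
  set C' := C.map (MulAut.conj (o : G)⁻¹).toMonoidHom with hC'
  have hTo : ∀ x : G, ∀ hx : x ∈ C, (⟨(o : G)⁻¹ * x * o, mul_mem (mul_mem (inv_mem o.2) (hle hC htC hx)) o.2⟩ : C0)
      ∈ (T : Subgroup C0) := by
    intro x hx
    have h1 : (⟨x, hle hC htC hx⟩ : C0) ∈ (((o * s) • T : Sylow 2 C0) : Subgroup C0) := by
      rw [hc]; exact hT' hx
    rw [Sylow.coe_subgroup_smul] at h1
    obtain ⟨y, hy, hye⟩ := h1
    have h2 := mul_mem (mul_mem hs hy) (inv_mem hs)
    convert h2 using 1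
    apply Subtype.ext
    have h3 := congrArg Subtype.val hye
    simp [MulAut.smul_def] at h3
    show (o : G)⁻¹ * x * o = (s : G) * y * (s : G)⁻¹
    rw [← h3]
    group
  obtain ⟨S, hS⟩ := (T.2.map C0.subtype).exists_le_sylow
  have h1 : WB B = WB C' := WB_eq_of_le_sylow hI (S := S) hB (hC.map _)
    (fun x hx => hS ⟨⟨x, hle hB htB hx⟩, hT hx, rfl⟩)
    (by
      rintro _ ⟨x, hx, rfl⟩
      refine hS ⟨_, hTo x hx, ?_⟩
      simp)
  rw [h1, hC', ← map_WB hI hC]
  refine mem_normalizer_iff_map_conj_eq.1 ?_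
  exact le_normalizer (inv_mem hoW)

end Cfsg.Agent.CIT.SThreeTwo
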