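import Cfsg.Agent.Lib.CIT.Theorem
import Cfsg.Agent.Lib.CIT.Gen
import Cfsg.Agent.Lib.CIT.GenIndex
import Cfsg.Agent.Lib.CIT.UFourGroup
import Cfsg.Agent.Lib.Involutions.BaerSuzuki

/-!
# S3214: CIT groups with one class of involutions and an elementary subgroup of order eight

A subgroup containing a conjugate of the elementary subgroup, strongly embedded or everything, in
which the 2-elements form a subgroup: unless there is a section `PSL₃(4)`, which an odd subgroup
transitive on the involutions excludes.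
-/

set_option autoImplicit false
set_option linter.style.haveILetI false
set_option linter.unusedSectionVars false

namespace Cfsg.Agent.CIT.SThreeTwo

open Subgroup Cfsg.Agent.Involutions

universe u

/-- A 2-element. -/
def IsTwoEl {Y : Type*} [Group Y] (x : Y) : Prop := ∃ k : ℕ, x ^ 2 ^ k = 1

theorem eq_one_of_isTwoEl_odd {Y : Type*} [Group Y] {x : Y} (h : IsTwoEl x) (ho : Odd (orderOf x)) :
    x = 1 := by
  obtain ⟨k, hk⟩ := h
  obtain ⟨j, -, hj⟩ := (Nat.dvd_prime_pow Nat.prime_two).1 (orderOf_dvd_of_pow_eq_one hk)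
  rcases j with _ | j
  · exact orderOf_eq_one_iff.1 (by rw [hj, pow_zero])
  · rw [hj] at ho
    exact absurd (Nat.even_pow.2 ⟨even_two, j.succ_ne_zero⟩) (Nat.not_even_iff_odd.2 ho)

/-- Over a normal 2-subgroup holding all involutions the 2-elements form a subgroup. -/
theorem isTwoEl_mul {Y : Type u} [Group Y] [Finite Y] (hY : IsCIT Y) (R : Subgroup Y)
    (hRn : R.Normal) (hRp : IsPGroup 2 R) (hall : ∀ t : Y, orderOf t = 2 → t ∈ R)
    {x y : Y} (hx : IsTwoEl x) (hy : IsTwoEl y) : IsTwoEl (x * y) := by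
  haveI : Fact (Nat.Prime 2) := ⟨Nat.prime_two⟩
  haveI := TimesPSLTwo.Affine.pCore_two_normal Y
  set P := Cfsg.pCore 2 Y with hP
  have hPp : IsPGroup 2 P := TimesPSLTwo.Affine.pCore_two_isPGroup Y
  haveI := hRn
  have hRP : R ≤ P := Cfsg.Agent.PLocal.Cores.le_pCore hRp
  have hodd : Odd (Nat.card (Y ⧸ P)) := by
    by_contra hev
    obtain ⟨τ, hτ⟩ := exists_prime_orderOf_dvd_card' (G := Y ⧸ P) 2
      (even_iff_two_dvd.1 (Nat.not_odd_iff_even.1 hev))
    obtain ⟨η, hη1, hηo, hηinv⟩ := BaerSuzuki.exists_inverted_odd τ hτ fun N hN hN2 hm => by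
      haveI := hN
      have h1 : N ≤ Cfsg.pCore 2 (Y ⧸ P) := Cfsg.Agent.PLocal.Cores.le_pCore hN2
      rw [Gen.pCore_quotient_eq_bot] at h1
      exact Basic.ne_one hτ (mem_bot.1 (h1 hm))
    obtain ⟨h, rfl⟩ := QuotientGroup.mk'_surjective P η
    obtain ⟨t, rfl⟩ := QuotientGroup.mk'_surjective P τ
    obtain ⟨k, m, hm, hkm⟩ := Nat.exists_eq_two_pow_mul_odd (orderOf_pos h).ne'
    set a := h ^ 2 ^ k with ha
    have hao : Odd (orderOf a) := by
      refine hm.of_dvd_nat (orderOf_dvd_of_pow_eq_one ?_)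
      rw [ha, ← pow_mul, ← hkm, pow_orderOf_eq_one]
    have haP : QuotientGroup.mk' P a ≠ 1 := fun e => hη1 (eq_one_of_isTwoEl_odd ⟨k, by
      rw [← map_pow, ← ha, e]⟩ hηo)
    have hfix : ∀ c ∈ P, Commute c a → c = 1 := fun c hc hca => by
      by_contra hc1
      obtain ⟨j, hj⟩ := IsPGroup.iff_orderOf.1 hPp ⟨c, hc⟩
      rw [Subgroup.orderOf_mk] at hj
      have hj0 : j ≠ 0 := fun e => hc1 (orderOf_eq_one_iff.1 (by rw [hj, e, pow_zero]))
      have ht := orderOf_pow_orderOf_div (orderOf_pos c).ne'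
        (hj ▸ dvd_pow_self 2 hj0 : 2 ∣ orderOf c)
      exact haP (by rw [hY.eq_one_of_commute ht hao (hca.pow_left _), map_one])
    have hta : (t * a * t⁻¹) * a ∈ P := by
      rw [← QuotientGroup.eq_one_iff, ← QuotientGroup.mk'_apply, map_mul, map_mul, map_mul, map_inv,
        ha, map_pow, ← conj_pow, hηinv, inv_pow, inv_mul_cancel]
    let f : P → P := fun c => ⟨(c : Y) * a⁻¹ * (c : Y)⁻¹ * a, by
      rw [show (c : Y) * a⁻¹ * (c : Y)⁻¹ * a = c * (a⁻¹ * (c : Y)⁻¹ * a) by group]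
      refine mul_mem c.2 ?_
      simpa using (inferInstance : P.Normal).conj_mem _ (inv_mem c.2) a⁻¹⟩
    have hf : Function.Injective f := by
      intro c c' e
      have e' : (c : Y) * a⁻¹ * (c : Y)⁻¹ = c' * a⁻¹ * (c' : Y)⁻¹ :=
        mul_right_cancel (congrArg Subtype.val e)
      have h1 := hfix _ (mul_mem (inv_mem c'.2) c.2) (Commute.inv_right_iff.1 (by
        show (c' : Y)⁻¹ * c * a⁻¹ = a⁻¹ * ((c' : Y)⁻¹ * c)
        calc (c' : Y)⁻¹ * c * a⁻¹ = (c' : Y)⁻¹ * (c * a⁻¹ * (c : Y)⁻¹) * c := by group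
          _ = (c' : Y)⁻¹ * (c' * a⁻¹ * (c' : Y)⁻¹) * c := by rw [e']
          _ = a⁻¹ * ((c' : Y)⁻¹ * c) := by group))
      exact Subtype.ext (inv_mul_eq_one.1 h1).symm
    obtain ⟨c, hc⟩ := Finite.surjective_of_injective hf ⟨_, hta⟩
    have hc' : (c : Y) * a⁻¹ * (c : Y)⁻¹ = t * a * t⁻¹ :=
      mul_right_cancel (congrArg Subtype.val hc)
    set s := (c : Y)⁻¹ * t with hs
    have hsa : s * a * s⁻¹ = a⁻¹ := by
      rw [hs, show (c : Y)⁻¹ * t * a * ((c : Y)⁻¹ * t)⁻¹ = (c : Y)⁻¹ * (t * a * t⁻¹) * c by group,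
        ← hc']
      group
    have hsP : s * s ∈ P := by
      rw [← QuotientGroup.eq_one_iff, ← QuotientGroup.mk'_apply, map_mul, hs, map_mul,
        map_inv, show QuotientGroup.mk' P (c : Y) = 1 from (QuotientGroup.eq_one_iff _).2 c.2,
        inv_one, one_mul, sq_eq_one_of_orderOf hτ]
    have hss : s * s = 1 := hfix _ hsP (by
      show s * s * a = a * (s * s)
      calc s * s * a = s * (s * a * s⁻¹) * s := by group
        _ = s * a⁻¹ * s := by rw [hsa]
        _ = (s * a * s⁻¹)⁻¹ * (s * s) := by group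
        _ = a * (s * s) := by rw [hsa, inv_inv])
    have hs1 : s ∉ P := fun e => Basic.ne_one hτ ((QuotientGroup.eq_one_iff t).2 (by
      have := mul_mem c.2 e
      rwa [hs, mul_inv_cancel_left] at this))
    exact hs1 (hRP (hall s (orderOf_eq_prime (by rw [sq, hss]) fun e => hs1 (e ▸ one_mem P))))
  have hmem : ∀ g : Y, IsTwoEl g → g ∈ P := fun g ⟨k, hk⟩ => (QuotientGroup.eq_one_iff g).1
    (eq_one_of_isTwoEl_odd ⟨k, by rw [← QuotientGroup.mk_pow, hk, QuotientGroup.mk_one]⟩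
      (hodd.of_dvd_nat (orderOf_dvd_natCard _)))
  obtain ⟨k, hk⟩ := IsPGroup.iff_orderOf.1 hPp ⟨x * y, mul_mem (hmem x hx) (hmem y hy)⟩
  rw [Subgroup.orderOf_mk] at hk
  exact ⟨k, by rw [← hk, pow_orderOf_eq_one]⟩

/-- With a cyclic subgroup of index two an elementary abelian 2-subgroup has order at most four. -/
theorem card_le_four_of_cyclic {S : Type*} [Group S] [Finite S] (c : S) (hc : (zpowers c).index = 2)
    (B : Subgroup S) (hB : ∀ x ∈ B, x * x = 1) : Nat.card B ≤ 4 := by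
  haveI := Subgroup.normal_of_index_eq_two hc
  set K := (zpowers c).subgroupOf B with hK
  have h1 : K.index ≤ 2 := Nat.le_of_dvd two_pos (hc ▸ relIndex_dvd_index_of_normal _ B)
  have h2 : Nat.card K ≤ 2 := by
    have hinj : Function.Injective fun x : K => (⟨((x : B) : S), x.2⟩ : zpowers c) := fun a b e =>
      Subtype.ext (Subtype.ext (congrArg (fun z : zpowers c => (z : S)) e))
    haveI := Fintype.ofFinite (zpowers c)
    classical
    refine (Nat.card_le_card_of_injective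
      (fun x : K => (⟨⟨((x : B) : S), x.2⟩, Subtype.ext (by
        show ((x : B) : S) ^ 2 = 1
        rw [sq, hB _ (x : B).2])⟩ : {a : zpowers c // a ^ 2 = 1})) ?_).trans ?_
    · intro a b e
      exact hinj (congrArg Subtype.val e)
    · rw [Nat.card_eq_fintype_card, Fintype.card_subtype]
      exact IsCyclic.card_pow_eq_one_le two_pos
  have h3 := K.card_mul_index
  rw [← h3]
  exact (Nat.mul_le_mul h2 h1).trans le_rfl

/-- An involution with centraliser of order four excludes elementary abelian subgroups of order 8. -/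
theorem card_le_four_of_centralizer {S : Type*} [Group S] [Finite S] (hS : IsPGroup 2 S) (x : S)
    (hx : orderOf x = 2) (hC : Nat.card (centralizer ({x} : Set S)) = 4) (B : Subgroup S)
    (hB : ∀ y ∈ B, y * y = 1) : Nat.card B ≤ 4 := by
  rcases S3224.result hS x hx hC with ⟨n, ⟨e⟩⟩ | ⟨n, hn, hcard, c, -, hc, -⟩ | h
  · rcases Nat.eq_zero_or_pos n with rfl | hn
    · haveI := Finite.of_equiv S e.toEquiv
      exact (not_finite_iff_infinite.2 (inferInstance : Infinite (DihedralGroup 0))) this |>.elim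
    refine card_le_four_of_cyclic (e.symm (DihedralGroup.r 1)) ?_ B hB
    have h := (zpowers (e.symm (DihedralGroup.r 1))).card_mul_index
    rw [Nat.card_zpowers, MulEquiv.orderOf_eq, DihedralGroup.orderOf_r_one,
      Nat.card_congr e.toEquiv, DihedralGroup.nat_card] at h
    exact Nat.eq_of_mul_eq_mul_left hn (h.trans (mul_comm _ _))
  · refine card_le_four_of_cyclic c ?_ B hB
    have h := (zpowers c).card_mul_index
    rw [Nat.card_zpowers, hc, hcard] at h
    exact Nat.eq_of_mul_eq_mul_left (Nat.two_pow_pos n) (h.trans (pow_succ 2 n))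
  · exact h ▸ Subgroup.card_le_card_group B

/-- A simple CIT group with an elementary abelian subgroup of order eight. -/
theorem stronglyEmbedded_or_lThreeFour {L : Type u} [Group L] [Finite L] [IsSimpleGroup L]
    (hL : ¬ IsMulCommutative L) (hC : IsCIT L) {B : Subgroup L} (hB : Nat.card B = 8)
    (hB2 : ∀ x ∈ B, x * x = 1) :
    (∃ S : Sylow 2 L, Cfsg.IsStronglyEmbedded (normalizer ((S : Subgroup L) : Set L))) ∨
      ∃ (U : Sylow 2 L) (R A : Subgroup L), LThreeFour U R A := by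
  haveI : Fact (Nat.Prime 2) := ⟨Nat.prime_two⟩
  have hLB : ListBelow.{u} (Nat.card L) := fun H _ _ _ _ hn hc => citTheorem H hn hc
  rcases dichotomy hL hC hLB offenderLemma with h | ⟨U, U', D, S₀, hU⟩
  · exact Or.inl h
  rcases offenderLemma L hC hLB _ D S₀ hU.offender with hT | ⟨n, A, h⟩
  swap
  · exact Or.inr (naturalInput L hL hC hLB offenderLemma U U' D S₀ A n hU h)
  exfalso
  set N := normalizer (D : Set L) with hN
  set W := Cfsg.omegaCenterOf D with hW
  have hS₀U : S₀ ≤ (U : Subgroup L) := hU.S₀_eq ▸ inf_le_left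
  have hS₀2 : IsPGroup 2 S₀ := U.2.to_le hS₀U
  have hWS : W ≤ S₀ := hT.W_le.trans hT.R_le_P
  have hS₀W : S₀ ≤ normalizer (W : Set L) := (hU.S₀_eq ▸ inf_le_right).trans hT.W_normal
  haveI : (W.subgroupOf S₀).Normal := normal_subgroupOf_of_le_normalizer hS₀W
  haveI := hS₀2.isNilpotent
  obtain ⟨⟨⟨z, hzS⟩, hzW, hzc⟩, hz1⟩ := (Subgroup.ne_bot_iff_exists_ne_one).1
    (Cores.inf_center_ne_bot (G := S₀) (N := W.subgroupOf S₀) (fun h => by
      have h1 : Nat.card (W.subgroupOf S₀) = 4 := by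
        rw [Nat.card_congr (subgroupOfEquivOfLe hWS).toEquiv]; exact hT.W_card
      rw [h, Subgroup.card_bot] at h1
      omega))
  haveI : Fact (Nat.Prime 3) := ⟨Nat.prime_three⟩
  obtain ⟨y, hy⟩ := exists_prime_orderOf_dvd_card' 3
    (show 3 ∣ Nat.card N by rw [hT.card_M]; exact Dvd.dvd.mul_right (by norm_num) _)
  obtain ⟨A, hAS, hA2, -, hAD⟩ := hT.four
  obtain ⟨a, haA, haD⟩ := SetLike.not_le_iff_exists.1 hAD
  have d : RankOneData U D W z :=
    { R_le := hU.D_eq ▸ inf_le_left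
      R_cent := hU.D_cent
      W_le := hT.W_le
      W_card := hT.W_card
      W_sq := hT.W_sq
      W_comm := hT.W_cent
      W_normal := fun g hg x hx => (mem_normalizer_iff.1 (hT.W_normal hg) x).1 hx
      cent_W := fun g hg h => hT.cent_W.le
        ⟨mem_centralizer_iff.2 fun x hx => (h x hx).symm, hg⟩
      inv_four := hT.involutions
      three := ⟨y, y.2, by rw [Subgroup.orderOf_coe, hy]⟩
      exists_out := ⟨a, hS₀U (hAS haA), (hU.S₀_eq.le (hAS haA)).2, haD, hA2 a haA⟩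
      z_mem := hzW
      z_ne := fun h => hz1 (Subtype.ext (Subtype.ext h))
      z_cent := fun g hg hgn => (congrArg Subtype.val
        (mem_center_iff.1 hzc ⟨g, hU.S₀_eq.ge ⟨hg, hgn⟩⟩)).symm }
  obtain ⟨x, hxU, hx, hcard⟩ : ∃ x ∈ (U : Subgroup L), orderOf x = 2 ∧
      Nat.card ((U : Subgroup L) ⊓ centralizer ({x} : Set L) : Subgroup L) = 4 := by
    by_cases hle : (U : Subgroup L) ≤ normalizer (D : Set L)
    · exact d.exists_four_of_le hL hC hle
    · exact d.exists_four_of_not_le hC hle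
  have hCU : Nat.card (centralizer ({⟨x, hxU⟩} : Set (U : Subgroup L))) = 4 := by
    rw [← hcard]
    refine Nat.card_congr
      { toFun := fun c => ⟨c.1.1, c.1.2, mem_centralizer_singleton_iff.2
          (congrArg Subtype.val (mem_centralizer_singleton_iff.1 c.2))⟩
        invFun := fun c => ⟨⟨c.1, c.2.1⟩, mem_centralizer_singleton_iff.2
          (Subtype.ext (mem_centralizer_singleton_iff.1 c.2.2))⟩
        left_inv := fun c => rfl
        right_inv := fun c => rfl }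
  have hBp : IsPGroup 2 B := IsPGroup.of_card (n := 3) (by rw [hB]; norm_num)
  obtain ⟨T, hBT⟩ := hBp.exists_le_sylow
  let e := Sylow.equiv T U
  have h4 := card_le_four_of_centralizer U.2 ⟨x, hxU⟩ (by rw [← Subgroup.orderOf_coe]; exact hx) hCU
    ((B.subgroupOf T).map e.toMonoidHom) (by
      rintro _ ⟨w, hw, rfl⟩
      rw [← map_mul, show w * w = 1 from Subtype.ext (hB2 _ hw), map_one])
  rw [Subgroup.card_map_of_injective e.injective, Nat.card_congr (subgroupOfEquivOfLe hBT).toEquiv,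
    hB] at h4
  omega

/-- An odd subgroup is not transitive on the involutions of `PSL₃(4)`. -/
theorem not_transitive {L : Type u} [Group L] [Finite L] {U : Sylow 2 L} {R A : Subgroup L}
    (h : LThreeFour U R A) (D : Subgroup L) (hD : Odd (Nat.card D))
    (htr : ∀ s t : L, orderOf s = 2 → orderOf t = 2 → ∃ d ∈ D, d * s * d⁻¹ = t) : False := by
  haveI : Fact (Nat.Prime 2) := ⟨Nat.prime_two⟩
  obtain ⟨z, hz, hz1⟩ := h.exists_mem_Z
  have hz2 : orderOf z = 2 := orderOf_eq_prime (by rw [sq]; exact h.R_sq z hz.1) hz1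
  have hdec : ∀ g : L, ∃ d ∈ D, d⁻¹ * g ∈ (U : Subgroup L) := by
    intro g
    obtain ⟨d, hd, e⟩ := htr z (g * z * g⁻¹) hz2 (by rw [Basic.orderOf_conj, hz2])
    refine ⟨d, hd, h.cent_z z hz hz1 ▸ mem_centralizer_singleton_iff.2 ?_⟩
    calc d⁻¹ * g * z = d⁻¹ * (g * z * g⁻¹) * g := by group
      _ = d⁻¹ * (d * z * d⁻¹) * g := by rw [e]
      _ = z * (d⁻¹ * g) := by group
  have hG := h.card_eq
  have h315 : Nat.card D = 315 := by
    have hle : Nat.card L ≤ Nat.card D * 64 := by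
      rw [← h.card_U, ← Nat.card_prod]
      refine Nat.card_le_card_of_surjective (fun p : D × (U : Subgroup L) => (p.1 : L) * p.2) fun g => ?_
      obtain ⟨d, hd, hu⟩ := hdec g
      exact ⟨(⟨d, hd⟩, ⟨_, hu⟩), mul_inv_cancel_left d g⟩
    have hdvd : Nat.card D ∣ 2 ^ 6 * 315 := (Subgroup.card_subgroup_dvd_card D).trans (by rw [hG]; norm_num)
    have h1 := Nat.le_of_dvd (by norm_num) (((Nat.coprime_two_right.2 hD).pow_right 6).dvd_of_dvd_mul_left hdvd)
    omega
  set N := normalizer (R : Set L) with hN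
  haveI : MulAction.IsPretransitive D (L ⧸ N) := by
    refine ⟨fun a b => ?_⟩
    suffices hb : ∀ c : L ⧸ N, ∃ d : D, d • ((1 : L) : L ⧸ N) = c by
      obtain ⟨d, rfl⟩ := hb a
      obtain ⟨d', rfl⟩ := hb b
      exact ⟨d' * d⁻¹, by rw [mul_smul, inv_smul_smul]⟩
    intro c
    obtain ⟨g, rfl⟩ := QuotientGroup.mk_surjective c
    obtain ⟨d, hd, hu⟩ := hdec g
    refine ⟨⟨d, hd⟩, ?_⟩
    show ((d * 1 : L) : L ⧸ N) = _
    rw [mul_one]
    exact QuotientGroup.eq.2 (h.le_norm_R hu)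
  have hst : MulAction.stabilizer D ((1 : L) : L ⧸ N) = N.subgroupOf D := by
    ext d
    show (((d : L) * 1 : L) : L ⧸ N) = ((1 : L) : L ⧸ N) ↔ (d : L) ∈ N
    rw [mul_one, QuotientGroup.eq, mul_one, inv_mem_iff]
  have hidx := MulAction.index_stabilizer_of_transitive D ((1 : L) : L ⧸ N)
  rw [hst] at hidx
  have h21 : Nat.card (L ⧸ N) = 21 := by
    have := Subgroup.card_eq_card_quotient_mul_card_subgroup N
    rw [hG, show Nat.card N = 960 from h.norm_R] at this
    omega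
  have hc := (N.subgroupOf D).card_mul_index
  rw [hidx, h21, h315] at hc
  refine h.false_of_fifteen (D := D ⊓ N) inf_le_right ?_
  rw [← Subgroup.card_map_of_injective D.subtype_injective (K := N.subgroupOf D),
    subgroupOf_map_subtype, inf_comm] at hc
  omega

/-- A subgroup containing a conjugate of `B` which controls the fusion of its involutions and in
which the 2-elements form a subgroup. -/
theorem exists_controlling {X : Type u} [Group X] [Finite X] (hX : IsCIT X)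
    (hone : ∀ s t : X, orderOf s = 2 → orderOf t = 2 → IsConj s t) {B : Subgroup X}
    (hB : Nat.card B = 8) (hB2 : ∀ x ∈ B, x * x = 1) (D : Subgroup X) (hD : Odd (Nat.card D))
    (htr : ∀ s t : X, orderOf s = 2 → orderOf t = 2 → ∃ d ∈ D, d * s * d⁻¹ = t) :
    ∃ N : Subgroup X, (∃ x, ∀ b ∈ B, x * b * x⁻¹ ∈ N) ∧
      (∀ t ∈ N, orderOf t = 2 → ∀ x, x * t * x⁻¹ ∈ N → x ∈ N) ∧
      ∀ x ∈ N, ∀ y ∈ N, IsTwoEl x → IsTwoEl y → IsTwoEl (x * y) := by
  haveI : Fact (Nat.Prime 2) := ⟨Nat.prime_two⟩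
  by_cases hR : Cfsg.pCore 2 X = ⊥
  swap
  · have hRn := TimesPSLTwo.Affine.pCore_two_normal X
    have hRp := TimesPSLTwo.Affine.pCore_two_isPGroup X
    obtain ⟨t₀, ht₀, ht₀2⟩ : ∃ t ∈ Cfsg.pCore 2 X, orderOf t = 2 := by
      haveI := (Subgroup.nontrivial_iff_ne_bot _).2 hR
      obtain ⟨n, hn, hc⟩ := hRp.nontrivial_iff_card.1 inferInstance
      obtain ⟨t, ht⟩ := exists_prime_orderOf_dvd_card' (G := Cfsg.pCore 2 X) 2
        (hc ▸ dvd_pow_self 2 hn.ne')
      exact ⟨t, t.2, by rw [Subgroup.orderOf_coe, ht]⟩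
    have hall : ∀ t : X, orderOf t = 2 → t ∈ Cfsg.pCore 2 X := fun t ht => by
      obtain ⟨g, rfl⟩ := isConj_iff.1 (hone t₀ t ht₀2 ht)
      exact hRn.conj_mem _ ht₀ g
    exact ⟨⊤, ⟨1, fun _ _ => mem_top _⟩, fun _ _ _ x _ => mem_top x,
      fun x _ y _ => isTwoEl_mul hX _ hRn hRp hall⟩
  obtain ⟨a, ha⟩ : ∃ a : B, a ≠ 1 := by
    haveI : Nontrivial B := Finite.one_lt_card_iff_nontrivial.1 (by omega)
    exact exists_ne 1
  obtain ⟨b, hb1, hba⟩ : ∃ b : B, b ≠ 1 ∧ b ≠ a := by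
    classical
    haveI := Fintype.ofFinite B
    by_contra! hno
    have h2 : ({1, a} : Finset B) = Finset.univ := by
      ext x
      simpa using or_iff_not_imp_left.2 (hno x)
    have := Finset.card_le_two (a := (1 : B)) (b := a)
    rw [h2, Finset.card_univ, ← Nat.card_eq_fintype_card, hB] at this
    omega
  have ho : ∀ c : B, c ≠ 1 → orderOf (c : X) = 2 := fun c hc =>
    orderOf_eq_prime (by rw [sq, hB2 c c.2]) fun e => hc (Subtype.ext e)
  have hab : Commute (a : X) b := by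
    have h := hB2 _ (mul_mem a.2 b.2)
    show (a : X) * b = b * a
    rw [← inv_eq_of_mul_eq_one_right h, mul_inv_rev, inv_eq_of_mul_eq_one_right (hB2 a a.2),
      inv_eq_of_mul_eq_one_right (hB2 b b.2)]
  obtain ⟨L, hLn, hLs, hLna, hLC, -, -⟩ := socle hX hR (ho a ha) (ho b hb1)
    (fun e => hba (Subtype.ext e).symm) hab
  haveI := hLn
  haveI := hLs
  have hone' : Gen.OneClass L := (Gen.list_facts (citTheorem L hLna hLC)).1
  have hLev : ∃ t ∈ L, orderOf t = 2 := exists_involution_mem fun ho =>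
    hLna ⟨⟨IsSimpleGroup.comm_iff_isSolvable.2 (S0205.result ho)⟩⟩
  have hall : ∀ t : X, orderOf t = 2 → t ∈ L := fun t ht => by
    obtain ⟨t₀, ht₀, ht₀2⟩ := hLev
    obtain ⟨g, rfl⟩ := isConj_iff.1 (hone t₀ t ht₀2 ht)
    exact hLn.conj_mem _ ht₀ g
  have hBL : B ≤ L := fun c hc => by
    rcases eq_or_ne c 1 with rfl | h1
    · exact one_mem L
    · exact hall c (ho ⟨c, hc⟩ fun e => h1 (congrArg Subtype.val e))
  rcases stronglyEmbedded_or_lThreeFour hLna hLC (B := B.subgroupOf L)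
    (by rw [Nat.card_congr (subgroupOfEquivOfLe hBL).toEquiv, hB])
    (fun x hx => Subtype.ext (hB2 _ hx)) with ⟨S, hS⟩ | ⟨U, R, A, h⟩
  swap
  · have hp := Gen.isPGroup_quotient hX L hone' hLev
    have hDL : D ≤ L := fun d hd => (QuotientGroup.eq_one_iff d).1 (by
      obtain ⟨k, hk⟩ := hp (QuotientGroup.mk d)
      exact eq_one_of_isTwoEl_odd ⟨k, hk⟩ ((hD.of_dvd_nat (Subgroup.orderOf_dvd_natCard D hd)).of_dvd_nat
        (orderOf_map_dvd (QuotientGroup.mk' L) d)))
    refine (not_transitive h (D.subgroupOf L)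
      (by rwa [Nat.card_congr (subgroupOfEquivOfLe hDL).toEquiv]) fun s t hs ht => ?_).elim
    obtain ⟨d, hd, e⟩ := htr (s : X) (t : X) (by rw [Subgroup.orderOf_coe, hs])
      (by rw [Subgroup.orderOf_coe, ht])
    exact ⟨⟨d, hDL hd⟩, hd, Subtype.ext e⟩
  set S₀ := (S : Subgroup L).map L.subtype with hS₀
  set N := normalizer (S₀ : Set X) with hN
  have hS₀N : S₀ ≤ N := le_normalizer
  have hNL : ∀ t : X, ∀ htL : t ∈ L, (t ∈ N ↔ (⟨t, htL⟩ : L) ∈ normalizer ((S : Subgroup L) : Set L)) := by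
    intro t htL
    rw [hN, mem_normalizer_iff, mem_normalizer_iff]
    constructor
    · intro hh w
      have := hh (w : X)
      rw [hS₀, show t * (w : X) * t⁻¹ = L.subtype (⟨t, htL⟩ * w * ⟨t, htL⟩⁻¹) from rfl,
        show (w : X) = L.subtype w from rfl, mem_map_iff_mem L.subtype_injective,
        mem_map_iff_mem L.subtype_injective] at this
      exact this
    · intro hh w
      constructor
      · rintro ⟨v, hv, rfl⟩
        exact ⟨_, (hh v).1 hv, rfl⟩
      · rintro ⟨v, hv, e⟩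
        have hv' : (⟨t, htL⟩ : L) * ((⟨t, htL⟩ : L)⁻¹ * v * ⟨t, htL⟩) * (⟨t, htL⟩ : L)⁻¹ ∈
            (S : Subgroup L) := by
          rw [show (⟨t, htL⟩ : L) * ((⟨t, htL⟩ : L)⁻¹ * v * ⟨t, htL⟩) * (⟨t, htL⟩ : L)⁻¹ = v by group]
          exact hv
        refine ⟨(⟨t, htL⟩ : L)⁻¹ * v * ⟨t, htL⟩, (hh _).2 hv', ?_⟩
        show t⁻¹ * (v : X) * t = w
        rw [show (v : X) = t * w * t⁻¹ from e]
        group
  have hinS : ∀ t : X, t ∈ N → orderOf t = 2 → t ∈ S₀ := fun t htN ht => by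
    have htL := hall t ht
    exact ⟨⟨t, htL⟩, UFour.mem_of_normalizer ((hNL t htL).1 htN) (k := 1)
      (Subtype.ext (by show t ^ (2 ^ 1) = 1; rw [pow_one, ← ht, pow_orderOf_eq_one])), rfl⟩
  have hfus : ∀ t ∈ N, orderOf t = 2 → ∀ x, x * t * x⁻¹ ∈ N → x ∈ N := by
    intro t htN ht x hxt
    have ht' : orderOf (x * t * x⁻¹) = 2 := by rw [Basic.orderOf_conj, ht]
    let φ : MulAut L := MulAut.conjNormal x
    obtain ⟨l, hl⟩ := MulAction.exists_smul_eq L S (φ • S)
    have hy : (l : X)⁻¹ * x ∈ N := by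
      refine mem_normalizer_of_forall fun w hw => ?_
      obtain ⟨v, hv, rfl⟩ := hw
      have h1 : φ v ∈ ((φ • S : Sylow 2 L) : Subgroup L) :=
        Subgroup.smul_mem_pointwise_smul _ φ _ hv
      rw [← hl, Sylow.coe_subgroup_smul, mem_pointwise_smul_iff_inv_smul_mem] at h1
      refine ⟨_, h1, ?_⟩
      show (((MulAut.conj l)⁻¹ • φ v : L) : X) = _
      simp [φ, MulAut.smul_def, mul_assoc]
    have hlL : (⟨x * t * x⁻¹, hall _ ht'⟩ : L) ∈ normalizer ((S : Subgroup L) : Set L) :=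
      (hNL _ _).1 hxt
    have hconj : l⁻¹ * ⟨x * t * x⁻¹, hall _ ht'⟩ * l⁻¹⁻¹ ∈ normalizer ((S : Subgroup L) : Set L) := by
      refine (hNL _ (l⁻¹ * ⟨x * t * x⁻¹, hall _ ht'⟩ * l⁻¹⁻¹).2).1 ?_
      have := mul_mem (mul_mem hy htN) (inv_mem hy)
      rwa [show (l : X)⁻¹ * x * t * ((l : X)⁻¹ * x)⁻¹ =
        ((l⁻¹ * ⟨x * t * x⁻¹, hall _ ht'⟩ * l⁻¹⁻¹ : L) : X) by simp [mul_assoc]] at this
    have hlN : l⁻¹ ∈ normalizer ((S : Subgroup L) : Set L) :=
      StronglyEmbedded.mem_of_conj hS hlL (by rw [Subgroup.orderOf_mk]; exact ht') hconj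
    have hlN' : (l : X) ∈ N := (hNL _ l.2).2 (inv_mem_iff.1 hlN)
    have := mul_mem hlN' hy
    rwa [mul_inv_cancel_left] at this
  refine ⟨N, ?_, hfus, fun x hx y hy hx2 hy2 => ?_⟩
  · have hBp : IsPGroup 2 (B.subgroupOf L) := IsPGroup.of_card (n := 3)
      (by rw [Nat.card_congr (subgroupOfEquivOfLe hBL).toEquiv, hB]; norm_num)
    obtain ⟨T, hT⟩ := hBp.exists_le_sylow
    obtain ⟨l, hl⟩ := MulAction.exists_smul_eq L T S
    refine ⟨(l : X), fun c hc => hS₀N ⟨l * ⟨c, hBL hc⟩ * l⁻¹, ?_, rfl⟩⟩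
    rw [← hl]
    exact Subgroup.smul_mem_pointwise_smul _ (MulAut.conj l) _ (hT (x := ⟨c, hBL hc⟩) hc)
  · haveI : (S₀.subgroupOf N).Normal := normal_subgroupOf_of_le_normalizer le_rfl
    have hp : IsPGroup 2 (S₀.subgroupOf N) :=
      (S.2.map L.subtype).comap_of_injective N.subtype N.subtype_injective
    obtain ⟨k, hk⟩ := isTwoEl_mul (hX.subgroup N) (S₀.subgroupOf N) inferInstance hp
      (fun t ht => hinS t t.2 (by rw [Subgroup.orderOf_coe, ht]))
      (x := ⟨x, hx⟩) (y := ⟨y, hy⟩) (hx2.imp fun k h => Subtype.ext h)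
      (hy2.imp fun k h => Subtype.ext h)
    exact ⟨k, congrArg Subtype.val hk⟩

end Cfsg.Agent.CIT.SThreeTwo
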