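import Cfsg.Agent.Lib.CIT.SEOdd.Main
import Cfsg.Agent.Lib.CIT.SThreeTwo.TwoClosedCases

/-!
# S3214: a strongly embedded subgroup which is a CIT group modulo an odd normal subgroup

In a simple group, with an elementary abelian subgroup of order eight in it, the odd subgroup is trivial.
-/

set_option autoImplicit false
set_option linter.style.haveILetI false
set_option linter.unusedSectionVars false

namespace Cfsg.Agent.CIT.SThreeTwo

open Subgroup Cfsg.Agent.Involutions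
open Cfsg.Agent.Coprime.OddInvariant.PPrimeNilpotent (Pair)

universe u

variable {G : Type u} [Group G]

/-- `SEOdd.Hyp` without the 2-closure of `M/W`, with an elementary abelian subgroup of order eight. -/
structure Core (M W : Subgroup G) : Prop where
  emb : Cfsg.IsStronglyEmbedded M
  le : W ≤ M
  norm : ∀ m ∈ M, ∀ w ∈ W, m * w * m⁻¹ ∈ W
  odd : Odd (Nat.card W)
  cent : ∀ x ∈ M, Odd (orderOf x) → ∀ t ∈ M, orderOf t = 2 → Commute x t → x ∈ W
  eight : ∃ B : Subgroup G, B ≤ M ∧ Nat.card B = 8 ∧ ∀ x ∈ B, x * x = 1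

variable [Finite G] {M W : Subgroup G}

theorem Core.le_oddCore (h : Core M W) : W ≤ Cfsg.oddCore G := by
  classical
  haveI : Fact (Nat.Prime 2) := ⟨Nat.prime_two⟩
  obtain ⟨B, hBM, hB, hB2⟩ := h.eight
  obtain ⟨t₀, ht₀, ht₀2⟩ := StronglyEmbedded.exists_involution_mem h.emb.2.1
  obtain ⟨g, hg⟩ : ∃ g, g ∉ M := by
    by_contra! hall
    exact h.emb.1 (eq_top_iff.2 fun x _ => hall x)
  set u := g * t₀ * g⁻¹ with hu
  have hu2 : orderOf u = 2 := by rw [hu, Basic.orderOf_conj, ht₀2]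
  have huM : u ∉ M := fun e => hg (StronglyEmbedded.mem_of_conj h.emb ht₀ ht₀2 e)
  set D := M ⊓ M.map (MulAut.conj u).toMonoidHom with hD
  set W' := W.subgroupOf M with hW'
  haveI hW'n : W'.Normal := ⟨fun w hw m => h.norm m m.2 w hw⟩
  have hWodd : Odd (Nat.card W') := by
    rw [hW', Nat.card_congr (subgroupOfEquivOfLe h.le).toEquiv]
    exact h.odd
  have hWo : ∀ w : G, w ∈ W → Odd (orderOf w) := fun w hw =>
    h.odd.of_dvd_nat (Subgroup.orderOf_dvd_natCard W hw)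
  -- lifts of involutions of the quotient
  have hlift : ∀ τ : M ⧸ W', orderOf τ = 2 → ∃ t : M, orderOf (t : G) = 2 ∧ (t : M ⧸ W') = τ := by
    intro τ hτ
    obtain ⟨x, rfl⟩ := QuotientGroup.mk_surjective τ
    obtain ⟨k, m, hm, hkm⟩ := Nat.exists_eq_two_pow_mul_odd (orderOf_pos x).ne'
    obtain ⟨j, rfl⟩ := hm
    have hτ2 : (x : M ⧸ W') ^ 2 = 1 := by rw [← hτ, pow_orderOf_eq_one]
    have e : ((x ^ (2 * j + 1) : M) : M ⧸ W') = x := by
      rw [QuotientGroup.mk_pow, pow_succ, pow_mul, hτ2, one_pow, one_mul]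
    refine ⟨x ^ (2 * j + 1), ?_, e⟩
    have h2 : (x ^ (2 * j + 1)) ^ 2 = 1 := by
      refine eq_one_of_isTwoEl_odd ⟨k, ?_⟩ ((hWodd).of_dvd_nat (Subgroup.orderOf_dvd_natCard W' ?_))
      · rw [← pow_mul, ← pow_mul, show (2 * j + 1) * (2 * 2 ^ k) = orderOf x * 2 by rw [hkm]; ring,
          pow_mul, pow_orderOf_eq_one, one_pow]
      · rw [← QuotientGroup.eq_one_iff, QuotientGroup.mk_pow, e, hτ2]
    rw [Subgroup.orderOf_coe]
    refine orderOf_eq_prime h2 fun e1 => Basic.ne_one hτ ?_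
    rw [← e, e1, QuotientGroup.mk_one]
  have hCIT : IsCIT (M ⧸ W') := by
    intro τ hτ
    obtain ⟨t, ht, rfl⟩ := hlift τ hτ
    refine Gen.isPGroup_two_of_odd fun γ hγ => ?_
    obtain ⟨c, hc⟩ := QuotientGroup.mk_surjective (γ : M ⧸ W')
    have hc2 : orderOf ((c * t * c⁻¹ : M) : G) = 2 := by
      rw [Subgroup.coe_mul, Subgroup.coe_mul, Subgroup.coe_inv, Basic.orderOf_conj, ht]
    have hct : (t : G) * ((c * t * c⁻¹ : M) : G) ∈ W := by
      show ((t * (c * t * c⁻¹) : M) : G) ∈ W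
      rw [← mem_subgroupOf, ← hW', ← QuotientGroup.eq_one_iff, QuotientGroup.mk_mul,
        QuotientGroup.mk_mul, QuotientGroup.mk_mul, QuotientGroup.mk_inv, hc,
        mem_centralizer_singleton_iff.1 γ.2, mul_inv_cancel_right, ← QuotientGroup.mk_mul,
        show t * t = 1 from Subtype.ext (by rw [Subgroup.coe_mul, ← sq, ← ht, pow_orderOf_eq_one]; rfl),
        QuotientGroup.mk_one]
    obtain ⟨w, hw, hwe⟩ := Basic.exists_conj_of_odd ht hc2 (hWo _ hct)
    have hwW : w ∈ W := (zpowers_le.2 hct) hw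
    set c' : M := (⟨w, h.le hwW⟩ : M)⁻¹ * c with hc'
    have hct' : Commute (c' : G) (t : G) := by
      show (w⁻¹ * (c : G)) * t = t * (w⁻¹ * c)
      have e : w * t * w⁻¹ = (c : G) * t * (c : G)⁻¹ := hwe
      calc (w⁻¹ * (c : G)) * t = w⁻¹ * ((c : G) * t * (c : G)⁻¹) * c := by group
        _ = w⁻¹ * (w * t * w⁻¹) * c := by rw [e]
        _ = t * (w⁻¹ * c) := by group
    have hcq : (c' : M ⧸ W') = (γ : M ⧸ W') := by
      rw [hc', QuotientGroup.mk_mul, (QuotientGroup.eq_one_iff _).2 (inv_mem (show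
        (⟨w, h.le hwW⟩ : M) ∈ W' from hwW)), one_mul, hc]
    obtain ⟨k, m, hm, hkm⟩ := Nat.exists_eq_two_pow_mul_odd (orderOf_pos c').ne'
    have hin : c' ^ 2 ^ k ∈ W' := by
      show ((c' ^ 2 ^ k : M) : G) ∈ W
      refine h.cent _ (c' ^ 2 ^ k).2 ?_ t t.2 ht ?_
      · rw [Subgroup.orderOf_coe]
        exact hm.of_dvd_nat (orderOf_dvd_of_pow_eq_one (by rw [← pow_mul, ← hkm, pow_orderOf_eq_one]))
      · rw [Subgroup.coe_pow]; exact hct'.pow_left _
    refine eq_one_of_isTwoEl_odd ⟨k, Subtype.ext ?_⟩ hγ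
    rw [Subgroup.coe_pow, ← hcq, ← QuotientGroup.mk_pow, (QuotientGroup.eq_one_iff _).2 hin]
    rfl
  set q := QuotientGroup.mk' W' with hq
  set D' := (D.subgroupOf M).map q with hD'
  have htr : ∀ σ τ : M ⧸ W', orderOf σ = 2 → orderOf τ = 2 → ∃ d ∈ D', d * σ * d⁻¹ = τ := by
    intro σ τ hσ hτ
    obtain ⟨s, hs, rfl⟩ := hlift σ hσ
    obtain ⟨t, ht, rfl⟩ := hlift τ hτ
    obtain ⟨d, hd, e⟩ := StronglyEmbedded.exists_conj_in_inter h.emb hu2 huM hs s.2 ht t.2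
    refine ⟨q ⟨d, hd.1⟩, mem_map_of_mem _ hd, ?_⟩
    show ((⟨d, hd.1⟩ * s * (⟨d, hd.1⟩ : M)⁻¹ : M) : M ⧸ W') = _
    exact congrArg _ (Subtype.ext e)
  have hDodd : Odd (Nat.card D') := by
    refine (h.emb.2.2 u huM).of_dvd_nat ((Subgroup.card_map_dvd _ _).trans ?_)
    rw [Nat.card_congr (subgroupOfEquivOfLe (inf_le_left : D ≤ M)).toEquiv]
  set B' := (B.subgroupOf M).map q with hB'
  have hB' : Nat.card B' = 8 := by
    rw [← hB, ← Nat.card_congr (subgroupOfEquivOfLe hBM).toEquiv]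
    refine (Nat.card_eq_of_bijective (q.subgroupMap (B.subgroupOf M)) ⟨fun a b e => ?_,
      q.subgroupMap_surjective _⟩).symm
    have h1 : ((a : M)⁻¹ * b : M) ∈ W' := QuotientGroup.eq.1 (congrArg Subtype.val e)
    have h2 : ((a : M)⁻¹ * b : M) ∈ B.subgroupOf M := mul_mem (inv_mem a.2) b.2
    refine Subtype.ext (inv_mul_eq_one.1 (eq_one_of_isTwoEl_odd ⟨1, ?_⟩
      (hWodd.of_dvd_nat (Subgroup.orderOf_dvd_natCard W' h1))))
    rw [pow_one, sq]
    exact Subtype.ext (hB2 _ h2)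
  obtain ⟨N, ⟨ξ, hξ⟩, hfus, hmul⟩ := exists_controlling hCIT
    (fun σ τ hσ hτ => by
      obtain ⟨d, -, e⟩ := htr σ τ hσ hτ
      exact isConj_iff.2 ⟨d, e⟩)
    hB' (by
      rintro _ ⟨x, hx, rfl⟩
      rw [← map_mul, show x * x = 1 from Subtype.ext (hB2 _ hx), map_one])
    D' hDodd htr
  set M' := (N.comap q).map M.subtype with hM'
  have hmem : ∀ x : G, x ∈ M' ↔ ∃ hx : x ∈ M, q ⟨x, hx⟩ ∈ N := fun x =>
    ⟨fun ⟨y, hy, e⟩ => e ▸ ⟨y.2, hy⟩, fun ⟨hx, hn⟩ => ⟨⟨x, hx⟩, hn, rfl⟩⟩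
  have hWM' : W ≤ M' := fun w hw => (hmem w).2 ⟨h.le hw, by
    rw [show q ⟨w, h.le hw⟩ = 1 from (QuotientGroup.eq_one_iff _).2 hw]
    exact one_mem N⟩
  obtain ⟨m₀, hm₀⟩ := QuotientGroup.mk_surjective ξ
  have hconjB : ∀ b ∈ B, (m₀ : G) * b * (m₀ : G)⁻¹ ∈ M' := fun b hb => (hmem _).2
    ⟨(m₀ * ⟨b, hBM hb⟩ * m₀⁻¹ : M).2, by
      have := hξ _ (mem_map_of_mem q (show (⟨b, hBM hb⟩ : M) ∈ B.subgroupOf M from hb))
      rw [← hm₀] at this
      exact this⟩
  obtain ⟨a, ha⟩ : ∃ a : B, a ≠ 1 := by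
    haveI : Nontrivial B := Finite.one_lt_card_iff_nontrivial.1 (by omega)
    exact exists_ne 1
  obtain ⟨b, hb1, hba⟩ : ∃ b : B, b ≠ 1 ∧ b ≠ a := by
    haveI := Fintype.ofFinite B
    by_contra! hno
    have h2 : ({1, a} : Finset B) = Finset.univ := by
      ext x
      simpa using or_iff_not_imp_left.2 (hno x)
    have := Finset.card_le_two (a := (1 : B)) (b := a)
    rw [h2, Finset.card_univ, ← Nat.card_eq_fintype_card, hB] at this
    omega
  have ho : ∀ c : B, c ≠ 1 → orderOf (c : G) = 2 := fun c hc =>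
    orderOf_eq_prime (by rw [sq, hB2 c c.2]) fun e => hc (Subtype.ext e)
  have hab : Commute (a : G) b := by
    have h' := hB2 _ (mul_mem a.2 b.2)
    show (a : G) * b = b * a
    rw [← inv_eq_of_mul_eq_one_right h', mul_inv_rev, inv_eq_of_mul_eq_one_right (hB2 a a.2),
      inv_eq_of_mul_eq_one_right (hB2 b b.2)]
  have ha' : orderOf ((m₀ : G) * a * (m₀ : G)⁻¹) = 2 := by rw [Basic.orderOf_conj]; exact ho a ha
  refine SEOdd.Hyp.le_oddCore (M := M')
    { emb := ?_, le := hWM', norm := ?_, odd := h.odd, cent := ?_, pair := ?_, closed := ?_ }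
  · refine StronglyEmbedded.of_conj (fun e => h.emb.1 (eq_top_iff.2 (e ▸ map_subtype_le _))) ?_
      fun t ht ht2 x hx => ?_
    · have := Subgroup.orderOf_dvd_natCard M' (hconjB a a.2)
      rw [ha'] at this
      exact even_iff_two_dvd.2 this
    obtain ⟨htM, htN⟩ := (hmem t).1 ht
    obtain ⟨hxM', hxN⟩ := (hmem _).1 hx
    have hxM : x ∈ M := StronglyEmbedded.mem_of_conj h.emb htM ht2 hxM'
    refine (hmem x).2 ⟨hxM, hfus _ htN ?_ (q ⟨x, hxM⟩) ?_⟩
    · refine orderOf_eq_prime ?_ fun e => ?_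
      · rw [← map_pow, show (⟨t, htM⟩ : M) ^ 2 = 1 from Subtype.ext (by
          rw [Subgroup.coe_pow, ← ht2, pow_orderOf_eq_one]; rfl), map_one]
      · have hin : (⟨t, htM⟩ : M) ∈ W' := (QuotientGroup.eq_one_iff _).1 e
        exact absurd (ht2 ▸ hWo t hin : Odd 2) (by decide)
    · rw [← map_inv, ← map_mul, ← map_mul]
      exact hxN
  · exact fun m hm w hw => h.norm m ((hmem m).1 hm).1 w hw
  · exact fun x hx hxo t ht ht2 hc => h.cent x ((hmem x).1 hx).1 hxo t ((hmem t).1 ht).1 ht2 hc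
  · refine ⟨_, _, hconjB a a.2, hconjB b b.2, ha', by rw [Basic.orderOf_conj]; exact ho b hb1,
      (Commute.conj_iff _).2 hab, fun e => hba (Subtype.ext ?_).symm⟩
    exact mul_left_cancel (mul_right_cancel e)
  · intro x hx y hy hx2 hy2
    obtain ⟨hxM, hxN⟩ := (hmem x).1 hx
    obtain ⟨hyM, hyN⟩ := (hmem y).1 hy
    have he : ∀ (z : G) (hz : z ∈ M), SEOdd.IsTwoMod W z ↔ IsTwoEl (q ⟨z, hz⟩) := fun z hz =>
      exists_congr fun k => by
        rw [← map_pow, hq, QuotientGroup.mk'_apply, QuotientGroup.eq_one_iff, hW', mem_subgroupOf,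
          Subgroup.coe_pow]
    rw [he _ (mul_mem hxM hyM),
      show (⟨x * y, mul_mem hxM hyM⟩ : M) = ⟨x, hxM⟩ * ⟨y, hyM⟩ from rfl, map_mul]
    exact hmul _ hxN _ hyN ((he x hxM).1 hx2) ((he y hyM).1 hy2)

/-- In a simple group the odd subgroup is trivial. -/
theorem Core.eq_bot [IsSimpleGroup G] (h : Core M W) : W = ⊥ := by
  haveI := InvChar.Core.pPrimeCore_characteristic (G := G) 2
  rcases (normal_of_characteristic (Cfsg.oddCore G)).eq_bot_or_eq_top with e | e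
  · exact le_bot_iff.1 (e ▸ h.le_oddCore)
  · have h1 := InvChar.Core.odd_card_oddCore (G := G)
    rw [e, Subgroup.card_top] at h1
    exact absurd ((even_iff_two_dvd.1 h.emb.2.1).trans (Subgroup.card_subgroup_dvd_card M))
      fun h2 => Nat.not_even_iff_odd.2 h1 (even_iff_two_dvd.2 h2)

end Cfsg.Agent.CIT.SThreeTwo
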